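/-
Charts at arbitrary transpositions in type M(22), and linear lemmas in the partner group.
-/
import Cfsg.Agent.Lib.ThreeTrans.M22.Centraliser
import Cfsg.Agent.Lib.ThreeTrans.M22.Fact

set_option autoImplicit false
set_option linter.unusedSectionVars false

namespace CfsgThreeTrans.M22.Unique

open Matrix Cfsg CfsgLib CfsgLib.UnitaryTransvection CfsgLib.UnitarySimple CfsgThreeTrans.M22.Points

universe u

variable {G : Type u} [Group G] [Finite G] {D : Set G}
variable {F : Type} [Field F] [Fintype F] [DecidableEq F] {hF : Fintype.card F = 2 ^ 2}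

local notation "h" => Cfsg.hermForm 6 F 2
local notation "π" => QuotientGroup.mk' (Subgroup.center (Cfsg.SU 6 F 2))

/-- A chart at every transposition. -/
theorem exists_at (hD : IsThreeTranspositionClass D) (A : Data D F hF) {x : G} (hx : x ∈ D) :
    ∃ B : Data D F hF, B.t = x := by
  obtain ⟨g, rfl⟩ := cls_exists_conj hD A.ht hx
  set m := (MulAut.conj g).toMonoidHom with hm
  have hmap : (Subgroup.closure (Ds D A.t)).map m = Subgroup.closure (Ds D (g * A.t * g⁻¹)) := by
    rw [MonoidHom.map_closure, ← cj_Ds hD]; rfl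
  have hmap2 : (Subgroup.closure (Ds D A.t ∩ Ds D A.c)).map m =
      Subgroup.closure (Ds D (g * A.t * g⁻¹) ∩ Ds D (g * A.c * g⁻¹)) := by
    rw [MonoidHom.map_closure, ← cj_Ds hD, ← cj_Ds hD, ← Set.image_inter (cj_injective g)]; rfl
  let e := ((MulAut.conj g).subgroupMap (Subgroup.closure (Ds D A.t))).trans (MulEquiv.subgroupCongr hmap)
  let e2 := ((MulAut.conj g).subgroupMap (Subgroup.closure (Ds D A.t ∩ Ds D A.c))).trans
    (MulEquiv.subgroupCongr hmap2)
  have hback : ∀ y ∈ Ds D (g * A.t * g⁻¹), g⁻¹ * y * g⁻¹⁻¹ ∈ Ds D A.t := fun y hy => by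
    have : g⁻¹ * y * g⁻¹⁻¹ ∈ (fun z => g⁻¹ * z * g⁻¹⁻¹) '' Ds D (g * A.t * g⁻¹) := ⟨y, hy, rfl⟩
    rw [cj_Ds hD] at this
    rwa [show g⁻¹ * (g * A.t * g⁻¹) * g⁻¹⁻¹ = A.t by group] at this
  have he : ∀ y (hy : y ∈ Subgroup.closure (Ds D (g * A.t * g⁻¹))),
      ((e.symm ⟨y, hy⟩ : ↥(Subgroup.closure (Ds D A.t))) : G) = g⁻¹ * y * g⁻¹⁻¹ := fun y hy => by
    have := congrArg Subtype.val (e.apply_symm_apply ⟨y, hy⟩)
    change g * (e.symm ⟨y, hy⟩ : G) * g⁻¹ = y at this
    calc ((e.symm ⟨y, hy⟩ : ↥(Subgroup.closure (Ds D A.t))) : G)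
        = g⁻¹ * (g * (e.symm ⟨y, hy⟩ : G) * g⁻¹) * g⁻¹⁻¹ := by group
      _ = g⁻¹ * y * g⁻¹⁻¹ := by rw [this]
  have hsub : ∀ y (hy : y ∈ Subgroup.closure (Ds D (g * A.t * g⁻¹))) (hy' : g⁻¹ * y * g⁻¹⁻¹ ∈ Subgroup.closure (Ds D A.t)),
      e.symm ⟨y, hy⟩ = ⟨g⁻¹ * y * g⁻¹⁻¹, hy'⟩ := fun y hy hy' => Subtype.ext (he y hy)
  refine ⟨
    { t := g * A.t * g⁻¹
      c := g * A.c * g⁻¹
      ht := cls_conj hD g A.ht
      hc := cls_conj hD g A.hc
      htc := fun k => A.htc ((commute_cj_iff g).mp k)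
      φ := A.φ.comp e.symm.toMonoidHom
      ker_φ := ?_
      sur := A.sur.comp e.symm.surjective
      seven := ?_
      comm := fun y hy y' hy' my my' hc => ?_
      inj := fun y hy y' hy' my my' hc => ?_
      pt := fun y hy my => ?_
      lift := fun u u0 uu => ?_ }, rfl⟩
  · ext y
    rw [MonoidHom.mem_ker, MonoidHom.comp_apply, ← MonoidHom.mem_ker, A.ker_φ]
    simp only [Subgroup.mem_center_iff]
    constructor
    · intro k z
      have := congrArg e (k (e.symm z))
      simpa using this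
    · intro k z
      have := congrArg e.symm (k (e z))
      simpa using this
  · have hc : (Subgroup.center _).map e2.toMonoidHom =
        Subgroup.center ↥(Subgroup.closure (Ds D (g * A.t * g⁻¹) ∩ Ds D (g * A.c * g⁻¹))) := by
      ext y
      simp only [Subgroup.mem_map, Subgroup.mem_center_iff, MulEquiv.coe_toMonoidHom]
      constructor
      · rintro ⟨x, hx, rfl⟩ z
        have := congrArg e2 (hx (e2.symm z))
        simpa using this
      · intro k
        exact ⟨e2.symm y, fun z => by simpa using congrArg e2.symm (k (e2 z)), e2.apply_symm_apply y⟩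
    rw [← Nat.card_congr (QuotientGroup.congr _ _ e2 hc).toEquiv]
    exact A.seven
  · have m1 := Subgroup.subset_closure (hback y hy)
    have m2 := Subgroup.subset_closure (hback y' hy')
    rw [MonoidHom.comp_apply, MonoidHom.comp_apply, MulEquiv.coe_toMonoidHom, hsub y my m1, hsub y' my' m2] at hc
    exact (commute_cj_iff g⁻¹).mp (A.comm _ (hback y hy) _ (hback y' hy') m1 m2 hc)
  · have m1 := Subgroup.subset_closure (hback y hy)
    have m2 := Subgroup.subset_closure (hback y' hy')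
    rw [MonoidHom.comp_apply, MonoidHom.comp_apply, MulEquiv.coe_toMonoidHom, hsub y my m1, hsub y' my' m2] at hc
    exact cj_injective g⁻¹ (A.inj _ (hback y hy) _ (hback y' hy') m1 m2 hc)
  · have m1 := Subgroup.subset_closure (hback y hy)
    obtain ⟨u, h0', h1', h4⟩ := A.pt _ (hback y hy) m1
    exact ⟨u, h0', h1', by rw [MonoidHom.comp_apply, MulEquiv.coe_toMonoidHom, hsub y my m1, h4]⟩
  · obtain ⟨y, my, hy, hy'⟩ := A.lift u u0 uu
    have hy2 : g * y * g⁻¹ ∈ Ds D (g * A.t * g⁻¹) := by rw [← cj_Ds hD]; exact ⟨y, hy, rfl⟩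
    refine ⟨g * y * g⁻¹, Subgroup.subset_closure hy2, hy2, ?_⟩
    rw [MonoidHom.comp_apply, MulEquiv.coe_toMonoidHom, show e.symm ⟨g * y * g⁻¹, Subgroup.subset_closure hy2⟩ =
      ⟨y, my⟩ from Subtype.ext (by rw [he]; group), hy']

/-- An element of the partner group acting as a linear map: eigenvectors from centralised partners. -/
theorem eigen (hD : IsThreeTranspositionClass D) (A : Data D F hF) {g : G} (hg : g ∈ Subgroup.closure (Ds D A.t))
    {k : Cfsg.SU 6 F 2} (hk : A.φ ⟨g, hg⟩ = π k) (x : Iso F) (hc : Commute g (point A x)) :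
    ∃ l : F, l ≠ 0 ∧ mat k *ᵥ x.1 = l • x.1 := by
  obtain ⟨y, hy, hy'⟩ := cj_point hD A hg hk x
  rw [hc.eq, mul_inv_cancel_right] at hy'
  obtain ⟨a, ha, e⟩ := (point_eq_iff A y x).mp hy'.symm
  exact ⟨a, ha, hy.symm.trans e⟩

/-- Conversely. -/
theorem commute_of_eigen (hD : IsThreeTranspositionClass D) (A : Data D F hF) {g : G}
    (hg : g ∈ Subgroup.closure (Ds D A.t)) {k : Cfsg.SU 6 F 2} (hk : A.φ ⟨g, hg⟩ = π k) (x : Iso F) {l : F}
    (hl : mat k *ᵥ x.1 = l • x.1) : Commute g (point A x) := by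
  obtain ⟨y, hy, hy'⟩ := cj_point hD A hg hk x
  have hl0 : l ≠ 0 := fun e => mat_ne_zero _ x.2.1 (by rw [hl, e, zero_smul])
  rw [(point_eq_iff A y x).mpr ⟨l, hl0, hy.trans hl⟩] at hy'
  exact mul_inv_eq_iff_eq_mul.mp hy'

/-- Linked eigenvectors have equal eigenvalues. -/
theorem eigen_eq (hF : Fintype.card F = 2 ^ 2) (k : Cfsg.SU 6 F 2) {x y : Fin 6 → F} {l m : F} (hl : l ≠ 0)
    (hm : m ≠ 0) (hx : mat k *ᵥ x = l • x) (hy : mat k *ᵥ y = m • y) (hxy : h x y ≠ 0) : l = m := by
  have e := su_h k x y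
  rw [hx, hy, h_smul_left, h_smul_right hF] at e
  have h1 : l * frob hF m = 1 := mul_right_cancel₀ hxy (by rw [mul_assoc, e, one_mul])
  calc l = l * (frob hF m * m) := by rw [norm_fix hF hm, mul_one]
    _ = l * frob hF m * m := (mul_assoc _ _ _).symm
    _ = m := by rw [h1, one_mul]

/-- An element acting as a scalar on the points of a partner is trivial up to the transposition. -/
theorem of_scalar (hD : IsThreeTranspositionClass D) (hp : IsPrimitiveUnderConj D) (hZ : Subgroup.center G = ⊥)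
    (A : Data D F hF) {g : G} (hg : g ∈ Subgroup.closure (Ds D A.t)) (h1 : A.φ ⟨g, hg⟩ = 1) : g = 1 ∨ g = A.t := by
  refine kernel_eq hD hp hZ A A.ht (closure_Ds_commute hg) fun y hy => ?_
  have hz : (⟨g, hg⟩ : ↥(Subgroup.closure (Ds D A.t))) ∈ Subgroup.center _ := A.ker_φ ▸ MonoidHom.mem_ker.mpr h1
  exact (congrArg Subtype.val (Subgroup.mem_center_iff.mp hz ⟨y, Subgroup.subset_closure hy⟩)).symm

theorem mk_of_scalar (hF : Fintype.card F = 2 ^ 2) {k : Cfsg.SU 6 F 2} {l : F}
    (hk : ∀ x, mat k *ᵥ x = l • x) : π k = 1 := by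
  refine (SpectrumPowers.mk_eq_one_iff_SU hF (by norm_num) k).mpr ⟨l, ?_⟩
  refine Matrix.ext_of_mulVec_single fun i => ?_
  show mat k *ᵥ _ = _
  rw [hk, Matrix.scalar_apply, ← Matrix.smul_one_eq_diagonal, smul_mulVec, one_mulVec]

/-- Three independent mutually orthogonal isotropic vectors span their common perpendicular. -/
theorem mem_span_plane (hF : Fintype.card F = 2 ^ 2) {v : Fin 3 → Fin 6 → F} (hv : LinearIndependent F v)
    (horth : ∀ i j, h (v i) (v j) = 0) {u : Fin 6 → F} (hu : ∀ i, h u (v i) = 0) :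
    u ∈ Submodule.span F (Set.range v) := by
  let ψ : (Fin 6 → F) →ₗ[F] (Fin 3 → F) :=
    { toFun := fun x i => h x (v i)
      map_add' := fun x y => funext fun i => h_add_left x y (v i)
      map_smul' := fun a x => funext fun i => h_smul_left a x (v i) }
  have hsurj : LinearMap.range ψ = ⊤ := by
    by_contra hne
    obtain ⟨f, hf0, hf⟩ := Submodule.exists_le_ker_of_lt_top _ (lt_top_iff_ne_top.mpr hne)
    set a : Fin 3 → F := fun i => f (Pi.single i 1)
    have key : ∀ x, ∑ i, h x (v i) * a i = 0 := fun x => by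
      have e : f (ψ x) = 0 := hf ⟨x, rfl⟩
      rw [show f (ψ x) = ∑ i, h x (v i) * a i from ?_] at e
      · exact e
      conv_lhs => rw [pi_eq_sum_univ' (ψ x), map_sum]
      refine Finset.sum_congr rfl fun i _ => ?_
      rw [map_smul, smul_eq_mul]
      rfl
    have hw : ∑ i, frob hF (a i) • v i = 0 := by
      refine h_nondeg hF fun y => ?_
      rw [← h_swap hF y]
      have : h y (∑ i, frob hF (a i) • v i) = ∑ i, h y (v i) * a i := by
        rw [Fin.sum_univ_three, Fin.sum_univ_three, h_add_right hF, h_add_right hF, h_smul_right hF,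
          h_smul_right hF, h_smul_right hF, frob_frob, frob_frob, frob_frob]
        ring
      rw [this, key, map_zero]
    have ha : ∀ i, a i = 0 := fun i => by
      have := congrArg (frob hF) (Fintype.linearIndependent_iff.mp hv _ hw i)
      rwa [frob_frob, map_zero] at this
    refine hf0 (LinearMap.pi_ext' fun i => LinearMap.ext_ring ?_)
    simpa using ha i
  have hle : Submodule.span F (Set.range v) ≤ LinearMap.ker ψ := by
    rw [Submodule.span_le]
    rintro _ ⟨i, rfl⟩
    exact funext fun j => horth i j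
  have hr := LinearMap.finrank_range_add_finrank_ker ψ
  rw [hsurj, finrank_top, Module.finrank_pi, Module.finrank_pi, Fintype.card_fin, Fintype.card_fin] at hr
  have heq := Submodule.eq_of_le_of_finrank_le hle (by
    rw [finrank_span_eq_card hv, Fintype.card_fin]; omega)
  rw [heq]
  exact funext hu

end CfsgThreeTrans.M22.Unique
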