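/-
A chain of six reflections in the projective reflection group of dimension six over three elements.
-/
import Cfsg.Agent.Lib.ThreeTrans.M22.ReflSix

set_option autoImplicit false
set_option maxRecDepth 100000

namespace CfsgThreeTrans.M22.Unique

open Matrix QuadraticMap CfsgReflClass

abbrev K3 := ZMod 3
abbrev V3 := Fin 6 → K3

/-- Neighbours in the chain. -/
abbrev Adj (i j : Fin 6) : Prop := (i : ℕ) + 1 = j ∨ (j : ℕ) + 1 = i

/-- The vectors of the chain in sums of squares. -/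
def cv (c : K3) : Fin 6 → V3 :=
  if c = 1 then ![![0, 0, 0, 0, 0, 1], ![0, 0, 1, 1, 1, 1], ![0, 0, 0, 0, 1, 0], ![0, 1, 1, 1, 1, 0],
      ![1, 1, 1, 2, 0, 0], ![1, 0, 0, 0, 0, 0]]
  else ![![0, 0, 0, 0, 1, 1], ![0, 0, 0, 1, 0, 2], ![0, 0, 0, 0, 2, 1], ![0, 1, 1, 1, 2, 1],
      ![1, 0, 2, 0, 0, 0], ![0, 2, 1, 0, 0, 0]]

theorem cv_norm : ∀ c : K3, c ≠ 0 → ∀ i, ∑ j, cv c i j * cv c i j = c := by decide +kernel

theorem cv_dot : ∀ c : K3, c ≠ 0 → ∀ i j, i ≠ j →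
    ((∑ k, cv c i k * cv c j k = 0 ∨ cv c i = cv c j ∨ cv c i = -cv c j) ↔ ¬ Adj i j) := by decide +kernel

theorem cv_span : ∀ c : K3, c ≠ 0 → ∀ v : V3, (∀ i, ∑ k, v k * cv c i k = 0) → v = 0 := by decide +kernel

theorem cv_no_dual : ∀ c : K3, c ≠ 0 → ∀ j : Fin 6, j = 3 ∨ j = 5 → ∀ v : V3, ∑ k, v k * v k = c →
    ¬ ∀ i, ((∑ k, v k * cv c i k = 0 ∨ v = cv c i ∨ v = -cv c i) ↔ i ≠ j) := by decide +kernel

/-- The reflection in `v` of the sum of squares. -/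
abbrev sR (c : K3) (v : V3) : Matrix (Fin 6) (Fin 6) K3 := stdRefl c v

/-- The product of four consecutive reflections. -/
def sσ (c : K3) : Matrix (Fin 6) (Fin 6) K3 :=
  sR c (cv c 2) * sR c (cv c 3) * sR c (cv c 4) * sR c (cv c 5)

theorem sσ_facts : ∀ c : K3, c ≠ 0 → sσ c ^ 5 = 1 ∧ sσ c * sR c (cv c 2) ≠ sR c (cv c 2) * sσ c ∧
    sσ c * sR c (cv c 0) = sR c (cv c 0) * sσ c := by decide +kernel

theorem cv_step : ∀ c : K3, c ≠ 0 → ∀ i j : Fin 6, (i : ℕ) + 1 = j →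
    (sR c (cv c i) * sR c (cv c j)) *ᵥ cv c i = cv c j ∨ (sR c (cv c i) * sR c (cv c j)) *ᵥ cv c i = -cv c j := by
  decide +kernel

theorem sR_det : ∀ c : K3, c ≠ 0 → (sR c (cv c 0)).det ≠ 1 := by decide +kernel

end CfsgThreeTrans.M22.Unique
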