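/-
Chains of reflections in copies of the projective reflection group of dimension six over three elements.
-/
import Cfsg.Agent.Lib.ThreeTrans.M22.Unique.Chain

set_option autoImplicit false

namespace CfsgThreeTrans.M22.Unique

open Matrix QuadraticMap CfsgReflClass
open scoped commutatorElement

universe u

section
variable (Q : QuadraticForm K3 V3) {c : K3} (hc : c ≠ 0)

set_option quotPrecheck false in
local notation "RG" => Cfsg.reflectionSubgroup (⇑Q) c

include hc in
/-- Equal reflections have proportional centres. -/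
theorem vec_of_eq {r : Cfsg.isometryGroup K3 (⇑Q)} {u v : V3} (hu : Q u = c) (hv : Q v = c)
    (h1 : IsRefl Q r u) (h2 : IsRefl Q r v) : v = u ∨ v = -u := by
  have e := (h1.2 v).symm.trans (h2.2 v)
  rw [polar_self_two Q v, hv, hu, show -(c⁻¹ * (2 * c)) = -2 from by field_simp] at e
  have h3 : (2 : K3) • v = (c⁻¹ * polar (⇑Q) u v) • u := by
    funext i
    have := congrFun e i
    simp only [Pi.add_apply, Pi.smul_apply, smul_eq_mul] at this ⊢
    linear_combination this
  set k := c⁻¹ * polar (⇑Q) u v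
  have h4 : v = (2 * k) • u := by
    rw [← smul_smul, ← h3, smul_smul, show (2 : K3) * 2 = 1 from rfl, one_smul]
  have h5 : c = (2 * k) * (2 * k) * c := by
    conv_lhs => rw [← hv, h4, QuadraticMap.map_smul, hu, smul_eq_mul]
  rcases (by decide : ∀ a : K3, a * a = 1 → a = 1 ∨ a = -1) (2 * k)
    (mul_right_cancel₀ hc (h5.symm.trans (one_mul c).symm)) with e' | e'
  · exact Or.inl (by rw [h4, e', one_smul])
  · exact Or.inr (by rw [h4, e', neg_one_smul])

include hc in
/-- Two reflections of norm `c` commute exactly when their centres are orthogonal or proportional. -/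
theorem commute_iff {r s : Cfsg.isometryGroup K3 (⇑Q)} {u v : V3} (hu : Q u = c) (hv : Q v = c)
    (hr : IsRefl Q r u) (hs : IsRefl Q s v) :
    Commute r s ↔ (polar (⇑Q) u v = 0 ∨ u = v ∨ u = -v) := by
  constructor
  · intro h
    have hcj : IsRefl Q s (r.1.1 *ᵥ v) := by
      have := hs.conj (g := r)
      rwa [h.eq, mul_inv_cancel_right] at this
    rcases vec_of_eq Q hc hv (by rw [iso_map, hv]) hs hcj with e | e
    · rw [hr.2, hu, add_eq_left, smul_eq_zero] at e
      rcases e with e | e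
      · exact Or.inl (by simpa [hc] using e)
      · exact absurd (by rw [← hu, e, QuadraticMap.map_zero]) hc
    · right
      rw [hr.2, hu] at e
      have h2 : (2 : K3) • v = (c⁻¹ * polar (⇑Q) u v) • u := by
        funext i
        have := congrFun e i
        simp only [Pi.add_apply, Pi.neg_apply, Pi.smul_apply, smul_eq_mul] at this ⊢
        linear_combination this
      have h4 : v = (2 * (c⁻¹ * polar (⇑Q) u v)) • u := by
        rw [← smul_smul, ← h2, smul_smul, show (2 : K3) * 2 = 1 from rfl, one_smul]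
      set k := 2 * (c⁻¹ * polar (⇑Q) u v)
      have h5 : c = k * k * c := by
        conv_lhs => rw [← hv, h4, QuadraticMap.map_smul, hu, smul_eq_mul]
      rcases (by decide : ∀ a : K3, a * a = 1 → a = 1 ∨ a = -1) k
        (mul_right_cancel₀ hc (h5.symm.trans (one_mul c).symm)) with e' | e'
      · exact Or.inl (by rw [h4, e', one_smul])
      · exact Or.inr (by rw [h4, e', neg_one_smul, neg_neg])
  · rintro (h | h | h)
    · refine iso_ext Q fun x => ?_
      rw [iso_mul, iso_mul, hr.2, hs.2, hs.2, hr.2, polar_add_right, polar_add_right, polar_smul_right,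
        polar_smul_right, h, polar_comm (⇑Q) v u, h]
      simp only [smul_zero, add_zero]
      abel
    · subst h; rw [IsRefl.unique hr hs]
    · subst h
      rw [show r = s from IsRefl.unique hr ⟨by rw [QuadraticMap.map_neg]; exact hs.1, fun x => by
        rw [hs.2, QuadraticMap.map_neg, polar_neg_left]; simp⟩]

variable (hQn : (polarBilin Q).Nondegenerate)

include hc hQn in
/-- Reflections whose images modulo the centre commute do commute. -/
theorem commute_of_mk {r s : ↥RG} (hr : r.1 ∈ Cfsg.reflectionsOfNorm (⇑Q) c) (hs : s.1 ∈ Cfsg.reflectionsOfNorm (⇑Q) c)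
    (h : Commute (r : ↥RG ⧸ Subgroup.center ↥RG) (s : ↥RG ⧸ Subgroup.center ↥RG)) : Commute r s := by
  obtain ⟨u, hu, hru⟩ := id hr
  obtain ⟨v, hv, hsv⟩ := id hs
  have hru' : IsRefl Q r.1 u := (isRefl_iff (by rw [hu]; exact hc)).mpr hru
  have hsv' : IsRefl Q s.1 v := (isRefl_iff (by rw [hv]; exact hc)).mpr hsv
  have hrr : r * r = 1 := Subtype.ext hru'.sq
  have hss : s * s = 1 := Subtype.ext hsv'.sq
  have hD := (CfsgReflClass.three_class_three hQn (by norm_num) hc).1
  by_contra hn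
  have h3 : (r * s) ^ 3 = 1 := CfsgThreeTrans.pow_three hD hr hs hn
  have h2 : ((r : ↥RG ⧸ Subgroup.center ↥RG) * s) ^ 2 = 1 := by
    rw [h.mul_pow, pow_two, pow_two, ← QuotientGroup.mk_mul, ← QuotientGroup.mk_mul, hrr, hss, QuotientGroup.mk_one,
      one_mul]
  have hz : r * s ∈ Subgroup.center ↥RG := by
    refine (QuotientGroup.eq_one_iff _).mp ?_
    have h3' : ((r : ↥RG ⧸ Subgroup.center ↥RG) * s) ^ 3 = 1 := by
      rw [← QuotientGroup.mk_mul, ← QuotientGroup.mk_pow, h3, QuotientGroup.mk_one]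
    rw [pow_succ, h2, one_mul] at h3'
    rwa [QuotientGroup.mk_mul]
  have e := Subgroup.mem_center_iff.mp hz r
  apply hn
  rw [← mul_assoc, hrr, one_mul] at e
  show r * s = s * r
  conv_rhs => rw [e, mul_assoc, hrr, mul_one]

set_option maxRecDepth 100000 in
set_option maxHeartbeats 2000000 in
include hc hQn in
/-- The chain of reflections in the projective group, with the element of order five. -/
theorem proj_chain (hQ : Cfsg.polarGramDet (⇑Q) = 1) :
    ∃ (s : Fin 6 → ↥RG ⧸ Subgroup.center ↥RG) (τ : ↥RG ⧸ Subgroup.center ↥RG),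
      (∀ i j, i ≠ j → (Commute (s i) (s j) ↔ ¬ Adj i j)) ∧ s 0 * s 0 = 1 ∧ s 0 ∉ commutator _ ∧
      τ ^ 5 = 1 ∧ τ ≠ 1 ∧ Commute τ (s 0) ∧
      (∀ i j : Fin 6, (i : ℕ) + 1 = j → s j = s i * s j * s i * (s i * s j)⁻¹) ∧
      ∀ g, ∀ j : Fin 6, j = 3 ∨ j = 5 → ¬ ∀ i, (Commute (g * s 0 * g⁻¹) (s i) ↔ i ≠ j) := by
  classical
  obtain ⟨P, hP, hfr⟩ := exists_frame Q hQ
  have hPu : IsUnit P.det := isUnit_iff_ne_zero.mpr hP
  have hpolar : ∀ x y : V3, polar (⇑Q) (P *ᵥ x) (P *ᵥ y) = 2 * ∑ i, x i * y i := by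
    intro x y
    simp only [polar, ← mulVec_add, hfr, Pi.add_apply]
    simp only [Finset.mul_sum, ← Finset.sum_sub_distrib]
    exact Finset.sum_congr rfl fun _ _ => by ring
  have hinj : Function.Injective fun x : V3 => P *ᵥ x := fun x y e => by
    have := congrArg (P⁻¹ *ᵥ ·) e
    simpa [mulVec_mulVec, nonsing_inv_mul P hPu] using this
  set w : Fin 6 → V3 := fun i => P *ᵥ cv c i with hw
  have hwc : ∀ i, Q (w i) = c := fun i => by rw [hw, hfr, cv_norm c hc]
  have hex : ∀ i, ∃ r : ↥RG, IsRefl Q r.1 (w i) ∧ r.1.1.1 * P = P * sR c (cv c i) := by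
    intro i
    obtain ⟨r, hr⟩ := IsRefl.exists (Q := Q) (v := w i) (by rw [hwc]; exact hc)
    refine ⟨⟨r, Subgroup.subset_closure ⟨w i, hwc i, (isRefl_iff hr.1).mp hr⟩⟩, hr, ?_⟩
    refine Matrix.ext_of_mulVec_single fun k => ?_
    rw [← mulVec_mulVec, ← mulVec_mulVec, hr.2, hwc, hw, hpolar, sR, stdRefl, sub_mulVec, one_mulVec, smul_mulVec,
      vecMulVec_mulVec, op_smul_eq_smul, smul_smul, mulVec_sub, mulVec_smul, sub_eq_add_neg, ← neg_smul]
    refine congrArg (fun a : K3 => P *ᵥ Pi.single k 1 + a • (P *ᵥ cv c i)) ?_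
    simp only [dotProduct]
    ring
  choose r hr hrP using hex
  have hmem : ∀ i, (r i).1 ∈ Cfsg.reflectionsOfNorm (⇑Q) c := fun i =>
    ⟨w i, hwc i, (isRefl_iff (hr i).1).mp (hr i)⟩
  -- matrices determine elements
  have hmat : ∀ {a b : ↥RG}, a.1.1.1 * P = b.1.1.1 * P → a = b := fun {a b} e =>
    Subtype.ext (Subtype.ext (Units.ext (((Matrix.isUnit_iff_isUnit_det P).mpr hPu).mul_right_cancel e)))
  have hmul : ∀ {a b : ↥RG} {A B : Matrix (Fin 6) (Fin 6) K3}, a.1.1.1 * P = P * A → b.1.1.1 * P = P * B →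
      (a * b).1.1.1 * P = P * (A * B) := fun {a b A B} ha hb => by
    show a.1.1.1 * b.1.1.1 * P = _
    rw [Matrix.mul_assoc, hb, ← Matrix.mul_assoc, ha, Matrix.mul_assoc]
  set σ : ↥RG := r 2 * r 3 * r 4 * r 5 with hσdef
  have hσP : σ.1.1.1 * P = P * sσ c := hmul (hmul (hmul (hrP 2) (hrP 3)) (hrP 4)) (hrP 5)
  obtain ⟨hσ5, hσn, hσ0⟩ := sσ_facts c hc
  have hσpow : σ ^ 5 = 1 := by
    have h' : ∀ k : ℕ, (σ ^ k).1.1.1 * P = P * sσ c ^ k := by
      intro k
      induction k with
      | zero => simp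
      | succ k ih => rw [pow_succ, pow_succ]; exact hmul ih hσP
    refine hmat ?_
    rw [h' 5, hσ5]
    simp
  have hσz : σ ∉ Subgroup.center ↥RG := fun h => hσn (by
    have := congrArg (fun x : ↥RG => x.1.1.1 * P) (Subgroup.mem_center_iff.mp h (r 2)).symm
    simp only [hmul hσP (hrP 2), hmul (hrP 2) hσP] at this
    exact ((Matrix.isUnit_iff_isUnit_det P).mpr hPu).mul_left_cancel this)
  have hdet : ∀ z ∈ Subgroup.center ↥RG, z.1.1.1.det = 1 := by
    intro z hz
    have hs : ∀ i, z.1.1.1 *ᵥ w i = w i ∨ z.1.1.1 *ᵥ w i = -w i := fun i => by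
      refine vec_of_eq Q hc (hwc i) (by rw [iso_map, hwc]) (hr i) ?_
      have := (hr i).conj (g := z.1)
      rwa [show z.1 * (r i).1 * z.1⁻¹ = (r i).1 from mul_inv_eq_iff_eq_mul.mpr
        (congrArg Subtype.val (Subgroup.mem_center_iff.mp hz (r i))).symm] at this
    have h3 : (3 : K3) = 0 := rfl
    have hstep : ∀ i j : Fin 6, Adj i j → ∀ s : K3, (s = 1 ∨ s = -1) → z.1.1.1 *ᵥ w i = s • w i →
        z.1.1.1 *ᵥ w j = s • w j := by
      intro i j hij s hs' hi
      have hne : i ≠ j := by rintro rfl; rcases hij with h | h <;> omega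
      have hnz : polar (⇑Q) (w i) (w j) ≠ 0 := by
        intro h0
        rw [hw, hpolar] at h0
        exact (cv_dot c hc i j hne).mp (Or.inl ((mul_eq_zero.mp h0).resolve_left (by decide))) hij
      have e := polar_map Q z.1 (w i) (w j)
      rcases hs j with hj | hj <;> rw [hi, hj] at e <;> rcases hs' with rfl | rfl
      · rw [hj, one_smul]
      · exfalso
        rw [polar_smul_left, smul_eq_mul] at e
        exact hnz (by linear_combination e + polar (⇑Q) (w i) (w j) * h3)
      · exfalso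
        rw [polar_smul_left, polar_neg_right, smul_eq_mul] at e
        exact hnz (by linear_combination e + polar (⇑Q) (w i) (w j) * h3)
      · rw [hj, neg_one_smul]
    obtain ⟨s, hs1, hs0⟩ : ∃ s : K3, (s = 1 ∨ s = -1) ∧ z.1.1.1 *ᵥ w 0 = s • w 0 := by
      rcases hs 0 with h | h
      · exact ⟨1, Or.inl rfl, by rw [h, one_smul]⟩
      · exact ⟨-1, Or.inr rfl, by rw [h, neg_one_smul]⟩
    have h1 := hstep 0 1 (Or.inl rfl) s hs1 hs0
    have h2 := hstep 1 2 (Or.inl rfl) s hs1 h1
    have h3 := hstep 2 3 (Or.inl rfl) s hs1 h2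
    have h4 := hstep 3 4 (Or.inl rfl) s hs1 h3
    have h5 := hstep 4 5 (Or.inl rfl) s hs1 h4
    have hall : ∀ i, z.1.1.1 *ᵥ w i = s • w i := fun i => by
      fin_cases i
      exacts [hs0, h1, h2, h3, h4, h5]
    have hz' : z.1.1.1 = s • 1 := by
      refine Matrix.ext_of_mulVec_single fun k => ?_
      rw [smul_mulVec, one_mulVec]
      set x : V3 := Pi.single k 1
      refine sub_eq_zero.mp ?_
      set y := z.1.1.1 *ᵥ x - s • x
      have hy : P *ᵥ (P⁻¹ *ᵥ y) = y := by rw [mulVec_mulVec, mul_nonsing_inv P hPu, one_mulVec]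
      rw [← hy]
      suffices hz0 : P⁻¹ *ᵥ y = 0 by rw [hz0, mulVec_zero]
      refine cv_span c hc _ fun i => ?_
      have hp : polar (⇑Q) y (w i) = 0 := by
        have e := polar_map Q z.1 x (w i)
        rw [hall i, polar_smul_right, smul_eq_mul] at e
        show polar (⇑Q) (z.1.1.1 *ᵥ x - s • x) (w i) = 0
        rw [polar_sub_left, polar_smul_left, smul_eq_mul]
        rcases hs1 with rfl | rfl
        · linear_combination e
        · linear_combination -e
      rw [hw, ← hy, hpolar] at hp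
      exact (mul_eq_zero.mp hp).resolve_left (by decide)
    rw [hz', det_smul, det_one, mul_one, Fintype.card_fin]
    rcases hs1 with rfl | rfl <;> decide
  have hodd : (r 0 : ↥RG ⧸ Subgroup.center ↥RG) ∉ commutator (↥RG ⧸ Subgroup.center ↥RG) := by
    intro h
    obtain ⟨δ, hδ⟩ : ∃ δ : ↥RG →* K3, ∀ x : ↥RG, δ x = Matrix.det x.1.1.1 :=
      ⟨{ toFun := fun x => Matrix.det x.1.1.1
         map_one' := Matrix.det_one
         map_mul' := fun x y => Matrix.det_mul x.1.1.1 y.1.1.1 }, fun _ => rfl⟩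
    have hδZ : Subgroup.center ↥RG ≤ (δ.toHomUnits).ker := fun z hz => MonoidHom.mem_ker.mpr (Units.ext (by
      rw [MonoidHom.coe_toHomUnits, hδ, hdet z hz, Units.val_one]))
    let δ' := QuotientGroup.lift _ δ.toHomUnits hδZ
    have h0 : δ' (r 0) = 1 := MonoidHom.mem_ker.mp (Abelianization.commutator_subset_ker δ' h)
    have h1 : (r 0).1.1.1.det = 1 := by
      rw [← hδ, ← MonoidHom.coe_toHomUnits]
      have e : δ' (r 0) = δ.toHomUnits (r 0) := QuotientGroup.lift_mk _ _ _
      rw [← e, h0, Units.val_one]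
    have h2 := congrArg Matrix.det (hrP 0)
    rw [det_mul, det_mul, h1, one_mul] at h2
    have h3 : (sR c (cv c 0)).det = 1 := mul_left_cancel₀ hP (h2.symm.trans (mul_one _).symm)
    exact sR_det c hc h3
  have hcomm : ∀ i j, i ≠ j → (Commute (r i : ↥RG ⧸ Subgroup.center ↥RG) (r j) ↔ ¬ Adj i j) := by
    intro i j hij
    rw [← cv_dot c hc i j hij]
    have hiff := commute_iff Q hc (hwc i) (hwc j) (hr i) (hr j)
    constructor
    · intro h
      rcases hiff.mp (congrArg Subtype.val (commute_of_mk Q hc hQn (hmem i) (hmem j) h).eq) with e | e | e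
      · rw [hw, hpolar] at e
        exact Or.inl ((mul_eq_zero.mp e).resolve_left (by decide))
      · exact Or.inr (Or.inl (hinj e))
      · exact Or.inr (Or.inr (hinj (by simpa [hw, mulVec_neg] using e)))
    · intro h
      refine (show Commute (r i) (r j) from Subtype.ext (hiff.mpr ?_).eq).map (QuotientGroup.mk' _)
      rcases h with h | h | h
      · exact Or.inl (by rw [hw, hpolar, h, mul_zero])
      · exact Or.inr (Or.inl (by rw [hw]; exact congrArg (P *ᵥ ·) h))
      · exact Or.inr (Or.inr (by simp [hw, h, mulVec_neg]))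
  refine ⟨fun i => (r i : ↥RG ⧸ Subgroup.center ↥RG), (σ : ↥RG ⧸ Subgroup.center ↥RG), hcomm, ?_, hodd, ?_, ?_, ?_, ?_, ?_⟩
  · rw [← QuotientGroup.mk_mul, show r 0 * r 0 = 1 from Subtype.ext (hr 0).sq, QuotientGroup.mk_one]
  · rw [← QuotientGroup.mk_pow, hσpow, QuotientGroup.mk_one]
  · exact fun h => hσz ((QuotientGroup.eq_one_iff σ).mp h)
  · refine (show Commute σ (r 0) from hmat ?_).map (QuotientGroup.mk' _)
    rw [hmul hσP (hrP 0), hmul (hrP 0) hσP, hσ0]
  · intro i j hij
    rw [← QuotientGroup.mk_mul, ← QuotientGroup.mk_inv, ← QuotientGroup.mk_mul, ← QuotientGroup.mk_mul]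
    refine congrArg _ (Subtype.ext (IsRefl.unique (hr j) ?_))
    have hcj := (hr i).conj (g := (r i * r j).1)
    show IsRefl Q ((r i * r j).1 * (r i).1 * (r i * r j).1⁻¹) (w j)
    have e : (r i * r j).1.1.1 *ᵥ w i = P *ᵥ ((sR c (cv c i) * sR c (cv c j)) *ᵥ cv c i) := by
      rw [hw, mulVec_mulVec, hmul (hrP i) (hrP j), ← mulVec_mulVec]
    rcases cv_step c hc i j hij with h | h <;> rw [e, h] at hcj
    · exact hcj
    · rw [mulVec_neg] at hcj
      refine ⟨(hr j).1, fun x => ?_⟩
      rw [hcj.2, QuadraticMap.map_neg, polar_neg_left]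
      simp [hw]
  · intro g j hj hall
    obtain ⟨g, rfl⟩ := QuotientGroup.mk'_surjective _ g
    set v := g.1.1.1 *ᵥ w 0
    have hv : Q v = c := by rw [iso_map, hwc]
    have hrv : IsRefl Q (g * r 0 * g⁻¹).1 v := (hr 0).conj
    have hvm : (g * r 0 * g⁻¹).1 ∈ Cfsg.reflectionsOfNorm (⇑Q) c := ⟨v, hv, (isRefl_iff hrv.1).mp hrv⟩
    obtain ⟨x, hx⟩ : ∃ x, P *ᵥ x = v := ⟨P⁻¹ *ᵥ v, by rw [mulVec_mulVec, mul_nonsing_inv P hPu, one_mulVec]⟩
    refine cv_no_dual c hc j hj x (by rw [← hfr, hx, hv]) fun i => ?_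
    rw [← hall i]
    have hiff := commute_iff Q hc hv (hwc i) hrv (hr i)
    constructor
    · intro h
      refine (show Commute (g * r 0 * g⁻¹) (r i) from Subtype.ext (hiff.mpr ?_).eq).map (QuotientGroup.mk' _)
      rcases h with h | h | h
      · exact Or.inl (by rw [← hx, hw, hpolar, h, mul_zero])
      · exact Or.inr (Or.inl (by rw [← hx, h]))
      · exact Or.inr (Or.inr (by rw [← hx, h, mulVec_neg]))
    · intro h
      rcases hiff.mp (congrArg Subtype.val (commute_of_mk Q hc hQn hvm (hmem i) h).eq) with e | e | e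
      · rw [← hx, hw, hpolar] at e
        exact Or.inl ((mul_eq_zero.mp e).resolve_left (by decide))
      · exact Or.inr (Or.inl (hinj (hx.trans e)))
      · exact Or.inr (Or.inr (hinj (hx.trans (by simp [e, hw, mulVec_neg]))))

end

end CfsgThreeTrans.M22.Unique
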