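/-
A chain of six common partners of two non-commuting transpositions in type M(22).
-/
import Cfsg.Agent.Lib.ThreeTrans.M22.Unique.Chart
import Cfsg.Agent.Lib.ThreeTrans.M22.Unique.Proj
import Cfsg.Agent.Lib.ThreeTrans.M22.ThreeA

set_option autoImplicit false
set_option linter.unusedSectionVars false

namespace CfsgThreeTrans.M22.Unique

open Matrix Cfsg CfsgLib CfsgLib.UnitaryTransvection CfsgLib.UnitarySimple CfsgThreeTrans.M22.Points
open scoped commutatorElement

universe u

variable {G : Type u} [Group G] [Finite G] {D : Set G}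
variable {F : Type} [Field F] [Fintype F] [DecidableEq F] {hF : Fintype.card F = 2 ^ 2}

local notation "h" => Cfsg.hermForm 6 F 2
local notation "π" => QuotientGroup.mk' (Subgroup.center (Cfsg.SU 6 F 2))

theorem commute_of_pow_five {x g : G} (hg : g ^ 5 = 1) {i : ℕ} (h1 : i = 1 ∨ i = 2 ∨ i = 3)
    (hc : Commute (g ^ i) x) : Commute g x := by
  obtain ⟨m, hm⟩ : ∃ m, g = (g ^ i) ^ m := by
    rcases h1 with rfl | rfl | rfl
    · exact ⟨1, by simp⟩
    · exact ⟨3, by rw [← pow_mul, show 2 * 3 = 5 + 1 from rfl, pow_succ, hg, one_mul]⟩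
    · exact ⟨2, by rw [← pow_mul, show 3 * 2 = 5 + 1 from rfl, pow_succ, hg, one_mul]⟩
  rw [hm]
  exact hc.pow_left m

variable (hG : IsThreeTranspositionGroup D) (hp : IsPrimitiveUnderConj D) (h22 : IsOfTypeM22 G D) (A : Data D F hF)
include hG hp h22 A

/-- An element of order five cannot centralise six commuting partners. -/
theorem five_fixes {g : G} (hg5 : g ^ 5 = 1) (hgt : Commute g A.t) (p : Fin 6 → G) (hpi : Function.Injective p)
    (hpD : ∀ i, p i ∈ Ds D A.t) (hpc : ∀ i j, Commute (p i) (p j)) (hgp : ∀ i, Commute g (p i)) : g = 1 := by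
  have hD := cls_of_group_prim hG hp
  have hloc := local_of_M22 h22
  have hg : g ∈ Subgroup.closure (Ds D A.t) := by
    rw [← centralizer_eq hD hp hloc h22.1 A A.ht]
    exact Subgroup.mem_centralizer_singleton_iff.mpr hgt.eq
  obtain ⟨k, hk⟩ := QuotientGroup.mk'_surjective _ (A.φ ⟨g, hg⟩)
  have hk5 : π (k ^ 5) = 1 := by
    rw [map_pow, hk, ← map_pow, show (⟨g, hg⟩ : ↥(Subgroup.closure (Ds D A.t))) ^ 5 = 1 from Subtype.ext hg5, map_one]
  obtain ⟨T, hT⟩ := (SpectrumPowers.mk_eq_one_iff_SU hF (by norm_num) (k ^ 5)).mp hk5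
  have hk5v : ∀ x, mat (k ^ 5) *ᵥ x = T • x := fun x => by
    show (k ^ 5 : Cfsg.SU 6 F 2).1.1 *ᵥ x = _
    rw [hT, Matrix.scalar_apply, ← Matrix.smul_one_eq_diagonal, smul_mulVec, one_mulVec]
  choose x hx using fun i => point_surj A (hpD i)
  set l := T * T with hl
  have heig : ∀ i, mat k *ᵥ (x i).1 = l • (x i).1 := by
    intro i
    obtain ⟨m, hm0, hm⟩ := eigen hD A hg hk.symm (x i) (by rw [hx]; exact hgp i)
    have hpow : ∀ j : ℕ, mat (k ^ j) *ᵥ (x i).1 = m ^ j • (x i).1 := by
      intro j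
      induction j with
      | zero => rw [pow_zero, pow_zero, mat_one, one_mulVec, one_smul]
      | succ j ih => rw [pow_succ, mat_mul, ← mulVec_mulVec, hm, mulVec_smul, ih, smul_smul, pow_succ']
    have h5 : m ^ 5 = T := smul_left_injective F (x i).2.1 ((hpow 5).symm.trans (hk5v _))
    have hm3 : m ^ 3 = 1 := cube hF hm0
    have : l = m := by
      rw [hl, ← h5]
      linear_combination (m ^ 7 + m ^ 4 + m) * hm3
    rw [hm, this]
  have horth : ∀ i j, h (x i).1 (x j).1 = 0 := fun i j => (point_commute_iff A _ _).mp (by rw [hx, hx]; exact hpc i j)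
  have hne : ∀ i j, i ≠ j → ∀ a : F, (x i).1 ≠ a • (x j).1 := by
    intro i j hij a e
    have ha : a ≠ 0 := fun a0 => (x i).2.1 (by rw [e, a0, zero_smul])
    exact hij (hpi (by rw [← hx i, ← hx j]; exact (point_eq_iff A _ _).mpr ⟨a, ha, e⟩))
  obtain ⟨v, hv, hvs⟩ : ∃ v : Fin 3 → Fin 6 → F, LinearIndependent F v ∧ ∀ i, ∃ j, v i = (x j).1 := by
    obtain ⟨j, hj⟩ : ∃ j : Fin 6, ∀ a b : F, (x j).1 ≠ a • (x 0).1 + b • (x 1).1 := by
      by_contra hcon
      push Not at hcon
      choose a b hab using hcon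
      have hb : ∀ j : Fin 6, j ≠ 0 → b j ≠ 0 := fun j hj b0 => hne j 0 hj (a j) (by rw [hab j, b0, zero_smul, add_zero])
      let f : {j : Fin 6 // j ≠ 0} → F := fun j => a j.1 / b j.1
      have hf : Function.Injective f := fun i j e => Subtype.ext (by
        by_contra hij
        refine hne i.1 j.1 hij (b i.1 / b j.1) ?_
        rw [hab i.1, hab j.1, smul_add, smul_smul, smul_smul, div_mul_cancel₀ _ (hb j.1 j.2)]
        congr 2
        have e' : a i.1 / b i.1 = a j.1 / b j.1 := e
        rw [div_eq_div_iff (hb _ i.2) (hb _ j.2)] at e'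
        rw [div_mul_eq_mul_div, eq_div_iff (hb _ j.2), e', mul_comm])
      have hcard := Fintype.card_le_of_injective f hf
      rw [hF, Fintype.card_subtype_compl, Fintype.card_fin, Fintype.card_subtype_eq] at hcard
      omega
    refine ⟨![(x 0).1, (x 1).1, (x j).1], ?_, fun i => ?_⟩
    · rw [Fintype.linearIndependent_iff]
      intro c hc
      simp only [Fin.sum_univ_three, Matrix.cons_val_zero, Matrix.cons_val_one, Matrix.cons_val_two,
        Matrix.head_cons, Matrix.tail_cons] at hc
      have h2 : c 2 = 0 := by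
        by_contra hne2
        refine hj (-(c 2)⁻¹ * c 0) (-(c 2)⁻¹ * c 1) (funext fun t => ?_)
        have := congrFun hc t
        simp only [Pi.add_apply, Pi.smul_apply, smul_eq_mul, Pi.zero_apply] at this ⊢
        field_simp
        linear_combination this
      rw [h2, zero_smul, add_zero] at hc
      have h1 : c 1 = 0 := by
        by_contra hne1
        refine hne 1 0 (by decide) (-(c 1)⁻¹ * c 0) (funext fun t => ?_)
        have := congrFun hc t
        simp only [Pi.add_apply, Pi.smul_apply, smul_eq_mul, Pi.zero_apply] at this ⊢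
        field_simp
        linear_combination this
      rw [h1, zero_smul, add_zero] at hc
      have h0' : c 0 = 0 := (smul_eq_zero.mp hc).resolve_right (x 0).2.1
      intro i
      fin_cases i <;> assumption
    · fin_cases i
      exacts [⟨0, rfl⟩, ⟨1, rfl⟩, ⟨j, rfl⟩]
  have hvl : ∀ i, mat k *ᵥ v i = l • v i := fun i => by
    obtain ⟨j, e⟩ := hvs i
    rw [e]; exact heig j
  have hvo : ∀ i j, h (v i) (v j) = 0 := fun i j => by
    obtain ⟨a, e⟩ := hvs i; obtain ⟨b, e'⟩ := hvs j
    rw [e, e']; exact horth a b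
  have hl0 : l ≠ 0 := fun e => by
    have := heig 0
    rw [e, zero_smul] at this
    exact mat_ne_zero _ (x 0).2.1 this
  have hspan : ∀ u ∈ Submodule.span F (Set.range v), mat k *ᵥ u = l • u := by
    intro u hu
    induction hu using Submodule.span_induction with
    | mem u hu => obtain ⟨i, rfl⟩ := hu; exact hvl i
    | zero => rw [mulVec_zero, smul_zero]
    | add u w _ _ hu hw => rw [mulVec_add, hu, hw, smul_add]
    | smul a u _ hu => rw [mulVec_smul, hu, smul_comm]
  have hstep : ∀ u, mat k *ᵥ u - l • u ∈ Submodule.span F (Set.range v) := by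
    intro u
    refine mem_span_plane hF hv hvo fun i => ?_
    have e := su_h k u (v i)
    rw [hvl i, h_smul_right hF] at e
    rw [h_sub_left, h_smul_left, ← e, ← mul_assoc, norm_one hF hl0, one_mul, sub_self]
  have hkl : ∀ u, mat k *ᵥ u = l • u := by
    intro u
    set N := fun w : Fin 6 → F => mat k *ᵥ w - l • w
    have hN : mat k *ᵥ N u = l • N u := hspan _ (hstep u)
    have hpow : ∀ j : ℕ, mat (k ^ (j + 1)) *ᵥ u = l ^ (j + 1) • u + ((j + 1 : ℕ) : F) • (l ^ j • N u) := by
      intro j
      induction j with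
      | zero =>
        rw [zero_add, pow_one, pow_one, pow_zero, one_smul, Nat.cast_one, one_smul]
        exact (add_sub_cancel (l • u) (mat k *ᵥ u)).symm
      | succ j ih =>
        have hk' : mat k *ᵥ u = l • u + N u := (add_sub_cancel (l • u) (mat k *ᵥ u)).symm
        rw [pow_succ' k, mat_mul, ← mulVec_mulVec, ih, mulVec_add, mulVec_smul, mulVec_smul, mulVec_smul, hN, hk']
        module
    have h5 := (hpow 4).symm.trans (hk5v u)
    have hl5 : l ^ (4 + 1) = T := by
      refine smul_left_injective F (x 0).2.1 ?_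
      have hpow0 : ∀ j : ℕ, mat (k ^ j) *ᵥ (x 0).1 = l ^ j • (x 0).1 := by
        intro j
        induction j with
        | zero => rw [pow_zero, pow_zero, mat_one, one_mulVec, one_smul]
        | succ j ih => rw [pow_succ, mat_mul, ← mulVec_mulVec, heig 0, mulVec_smul, ih, smul_smul, pow_succ']
      exact (hpow0 5).symm.trans (hk5v _)
    rw [hl5, add_eq_left, show ((4 + 1 : ℕ) : F) = 1 by
      push_cast; linear_combination (2 : F) * two_zero hF, one_smul, smul_eq_zero] at h5
    exact sub_eq_zero.mp (h5.resolve_left (pow_ne_zero _ hl0))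
  have h1 : A.φ ⟨g, hg⟩ = 1 := hk.symm.trans (mk_of_scalar hF hkl)
  rcases of_scalar hD hp h22.1 A hg h1 with e | e
  · exact e
  · exfalso
    have h2 := mul_self hD.1 A.ht
    rw [← e] at h2
    have : g ^ 5 = g := by rw [show 5 = 2 * 2 + 1 from rfl, pow_succ, pow_mul, pow_two g, h2, one_pow, one_mul]
    rw [hg5] at this
    have h3 := hD.1.1 A.t A.ht
    rw [← e, ← this, orderOf_one] at h3
    norm_num at h3

set_option maxHeartbeats 1000000 in
/-- The chain. -/
theorem exists_chain {b : G} (hb : b ∈ D) (hab : ¬ Commute A.t b) :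
    ∃ k : Fin 6 → G, (∀ i, k i ∈ Ds D A.t ∩ Ds D b) ∧
      (∀ i j, i ≠ j → (Commute (k i) (k j) ↔ ¬ Adj i j)) ∧
      ∀ j : Fin 6, j = 3 ∨ j = 5 → ∀ y ∈ Ds D A.t ∩ Ds D b, ¬ ∀ i, (Commute y (k i) ↔ i ≠ j) := by
  classical
  have hD := cls_of_group_prim hG hp
  obtain ⟨tt, htt, h3, h2, -⟩ := exists_full hG hp h22
  obtain ⟨c, Q, hc, hQn, hQ, hKC, ⟨e⟩⟩ := ThreeA.model hG hp h22 A A.ht hb hab
  obtain ⟨s, τ, hadj, hs2, hsc, hτ5, hτ1, hτs, hstep, hdual⟩ := proj_chain Q hc hQn hQ
  set S := Ds D A.t ∩ Ds D b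
  set K := Subgroup.closure S
  have hKa : ∀ g : K, Commute (g : G) A.t ∧ Commute (g : G) b := fun g => by
    have hg : (g : G) ∈ Subgroup.centralizer ({A.t, b} : Set G) := hKC ▸ g.2
    exact ⟨(Subgroup.mem_centralizer_iff.mp hg A.t (Set.mem_insert _ _)).symm,
      (Subgroup.mem_centralizer_iff.mp hg b (Set.mem_insert_of_mem _ rfl)).symm⟩
  have hinv : ∀ g : K, ∀ y ∈ S, (g : G) * y * (g : G)⁻¹ ∈ S := fun g y hy => by
    have : (g : G) * y * (g : G)⁻¹ ∈ (fun z => (g : G) * z * (g : G)⁻¹) '' S := ⟨y, hy, rfl⟩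
    rwa [Set.image_inter (cj_injective _), cj_Ds hD, cj_Ds hD, (hKa g).1.eq, mul_inv_cancel_right, (hKa g).2.eq,
      mul_inv_cancel_right] at this
  have htr : ∀ y ∈ S, ∀ z ∈ S, ∃ g : K, (g : G) * y * (g : G)⁻¹ = z := by
    intro y hy z hz
    obtain ⟨g, g1, g2, g3⟩ := ThreeA.pair_conj hG hp h22 A (z := y) (B := A.t) (C := b) hy.1.1
      ⟨A.ht, hy.1.2.1.symm, hy.1.2.2.symm⟩ ⟨hb, hy.2.2.1.symm, hy.2.2.2.symm⟩ hab (z' := z) (B' := A.t) (C' := b)
      hz.1.1 ⟨A.ht, hz.1.2.1.symm, hz.1.2.2.symm⟩ ⟨hb, hz.2.2.1.symm, hz.2.2.2.symm⟩ hab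
    refine ⟨⟨g, ?_⟩, g1⟩
    show g ∈ K
    rw [show K = Subgroup.centralizer ({A.t, b} : Set G) from hKC, Subgroup.mem_centralizer_iff]
    rintro v (rfl | rfl)
    exacts [(mul_inv_eq_iff_eq_mul.mp g2).symm, (mul_inv_eq_iff_eq_mul.mp g3).symm]
  set kk : Fin 6 → K := fun i => e.symm (s i) with hkk
  set σ : K := e.symm τ with hσ
  have hcK : ∀ {p q : ↥K}, Commute (e p) (e q) → Commute (p : G) q := fun {p q} hc' => by
    have := hc'.map e.symm
    simp only [MulEquiv.symm_apply_apply] at this
    exact congrArg Subtype.val this.eq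
  have hcK' : ∀ {p q : ↥K}, Commute (p : G) q → Commute (e p) (e q) := fun {p q} hc' =>
    (show Commute p q from Subtype.ext hc'.eq).map e
  have hk2 : (kk 0 : G) * kk 0 = 1 := congrArg Subtype.val
    (show kk 0 * kk 0 = 1 by rw [hkk, ← map_mul, hs2, map_one])
  have hσ5 : (σ : G) ^ 5 = 1 := by
    rw [← SubmonoidClass.coe_pow, show σ ^ 5 = 1 by rw [hσ, ← map_pow, hτ5, map_one]]; rfl
  have hσk : Commute (σ : G) (kk 0) := hcK (by simpa [hσ, hkk] using hτs)
  -- the first reflection is a transposition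
  have hk0 : (kk 0 : G) ∈ S := by
    obtain ⟨l, hlen, hnd, hm, hcom, hprod⟩ := short_invol hG hp htt h3 h2 h22 A hk2
    have hmS : ∀ y ∈ l, y ∈ S := fun y hy => by
      have ha := commute_members hD.1 hlen hnd hm hcom A.ht (by rw [hprod]; exact (hKa _).1.symm) y hy
      have hb' := commute_members hD.1 hlen hnd hm hcom hb (by rw [hprod]; exact (hKa _).2.symm) y hy
      exact ⟨⟨hm y hy, fun e' => hab ((e' ▸ hb').symm), ha⟩, hm y hy, fun e' => hab (e' ▸ ha), hb'⟩
    have mK : ∀ {y}, y ∈ S → y ∈ K := fun hy => Subgroup.subset_closure hy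
    rcases (show l.length = 0 ∨ l.length = 1 ∨ l.length = 2 ∨ l.length = 3 by omega) with hl | hl | hl | hl
    · exfalso
      rw [List.eq_nil_of_length_eq_zero hl, List.prod_nil] at hprod
      refine hsc ?_
      rw [show s 0 = e (kk 0) from (e.apply_symm_apply _).symm, show kk 0 = 1 from Subtype.ext hprod.symm, map_one]
      exact one_mem _
    · obtain ⟨y, rfl⟩ := List.length_eq_one_iff.mp hl
      rw [List.prod_singleton] at hprod
      exact hprod ▸ hmS y (by simp)
    · exfalso
      obtain ⟨y, z, rfl⟩ := List.length_eq_two.mp hl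
      simp only [List.prod_cons, List.prod_nil, mul_one] at hprod
      obtain ⟨g, hg⟩ := htr y (hmS y (by simp)) z (hmS z (by simp))
      refine hsc ?_
      set Y : K := ⟨y, mK (hmS y (by simp))⟩
      have hyy : y⁻¹ = y := inv_self hD.1 (hm y (by simp))
      have hcm : kk 0 = ⁅Y, g⁆ := Subtype.ext (by
        show _ = y * (g : G) * y⁻¹ * (g : G)⁻¹
        rw [hyy, ← hprod, ← hg]
        simp only [mul_assoc])
      rw [show s 0 = e (kk 0) from (e.apply_symm_apply _).symm, hcm]
      show e ⁅Y, g⁆ ∈ _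
      rw [map_commutatorElement]
      exact Subgroup.commutator_mem_commutator (Subgroup.mem_top _) (Subgroup.mem_top _)
    · exfalso
      obtain ⟨y₀, y₁, y₂, rfl⟩ := List.length_eq_three.mp hl
      obtain ⟨-, hfac⟩ := factorizations hG hp htt h3 h2 h22
      obtain ⟨l₁, l₂, f1, f2, hne, huniq⟩ := hfac _ _ (⟨hnd, hl, hm, hcom, hprod⟩ : IsFac D (kk 0 : G) 3 _)
      obtain ⟨a₁, b₁, c₁, rfl⟩ := List.length_eq_three.mp f1.2.1
      obtain ⟨a₂, b₂, c₂, rfl⟩ := List.length_eq_three.mp f2.2.1
      have hj : (kk 0 : G) = a₁ * b₁ * c₁ := by rw [← f1.2.2.2.2]; simp [mul_assoc]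
      rcases three_cases hD hp (hj ▸ f1) (hj ▸ f2) with hsame | ⟨hnd6, hcom6⟩
      · exact hne fun y => (hsame y).symm
      have hconj : ∀ {a b c : G}, IsFac D (kk 0 : G) 3 [a, b, c] →
          IsFac D (kk 0 : G) 3 ([a, b, c].map fun z => (σ : G) * z * (σ : G)⁻¹) := by
        rintro a b c ⟨n1, -, n3, n4, n5⟩
        refine ⟨n1.map (cj_injective _), rfl, ?_, ?_, ?_⟩
        · intro w hw
          obtain ⟨u', hu', rfl⟩ := List.mem_map.mp hw
          exact cls_conj hD _ (n3 u' hu')
        · intro w hw w' hw'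
          obtain ⟨u', hu', rfl⟩ := List.mem_map.mp hw
          obtain ⟨u'', hu'', rfl⟩ := List.mem_map.mp hw'
          exact (commute_cj_iff _).mpr (n4 u' hu' u'' hu'')
        · rw [show (fun z => (σ : G) * z * (σ : G)⁻¹) = ⇑(MulAut.conj (σ : G)).toMonoidHom from rfl,
            ← map_list_prod, n5]
          show (σ : G) * kk 0 * (σ : G)⁻¹ = _
          rw [hσk.eq, mul_inv_cancel_right]
      set S1 : Set G := {y | y ∈ [a₁, b₁, c₁]}
      set S2 : Set G := {y | y ∈ [a₂, b₂, c₂]}
      let cσ : Set G → Set G := fun T => (fun z => (σ : G) * z * (σ : G)⁻¹) '' T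
      have himg : ∀ {a b c : G}, IsFac D (kk 0 : G) 3 [a, b, c] →
          cσ {y | y ∈ [a, b, c]} = S1 ∨ cσ {y | y ∈ [a, b, c]} = S2 := by
        intro a b c hf
        have hset : cσ {y | y ∈ [a, b, c]} = {y | y ∈ [a, b, c].map fun z => (σ : G) * z * (σ : G)⁻¹} :=
          Set.ext fun y => by simp [cσ, eq_comm]
        rw [hset]
        rcases huniq _ (hconj hf) with e' | e'
        · exact Or.inl (Set.ext e')
        · exact Or.inr (Set.ext e')
      have hS12 : S1 ≠ S2 := fun e' => hne fun y => (Set.ext_iff.mp e' y)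
      have hcinj : Function.Injective cσ := Set.image_injective.mpr (cj_injective _)
      have h5 : cσ (cσ (cσ (cσ (cσ S1)))) = S1 := by
        simp only [cσ, cj_image_image]
        rw [show (σ : G) * ((σ : G) * ((σ : G) * ((σ : G) * (σ : G)))) = 1 by rw [← hσ5]; simp [pow_succ, mul_assoc], cj_one_image]
      have hfix : cσ S1 = S1 := by
        rcases himg f1 with e' | e'
        · exact e'
        · exfalso
          rcases himg f2 with e'' | e''
          · apply hS12
            have h21 : cσ S2 = S1 := e''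
            rw [show cσ S1 = S2 from e', h21, show cσ S1 = S2 from e', h21, show cσ S1 = S2 from e'] at h5
            exact h5.symm
          · exact hS12 (hcinj (e'.trans (show cσ S2 = S2 from e'').symm))
      have hfix2 : cσ S2 = S2 := by
        rcases himg f2 with e' | e'
        · exact absurd (hcinj (hfix.trans (show cσ S2 = S1 from e').symm)) hS12
        · exact e'
      have hsix : ∀ y ∈ [a₁, b₁, c₁, a₂, b₂, c₂], Commute (σ : G) y := by
        intro y hy
        have hgen : ∀ {a b c : G}, cσ {w | w ∈ [a, b, c]} = {w | w ∈ [a, b, c]} → ∀ w ∈ [a, b, c],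
            Commute (σ : G) w := by
          intro a b c hT w hw
          have hin : ∀ v ∈ [a, b, c], (σ : G) * v * (σ : G)⁻¹ ∈ [a, b, c] := fun v hv => by
            have : (σ : G) * v * (σ : G)⁻¹ ∈ cσ {w | w ∈ [a, b, c]} := ⟨v, hv, rfl⟩
            rwa [hT] at this
          have hit : ∀ n : ℕ, (σ : G) ^ n * w * ((σ : G) ^ n)⁻¹ ∈ [a, b, c] := by
            intro n
            induction n with
            | zero => simpa using hw
            | succ n ih =>
              have := hin _ ih
              rwa [cj_cj, ← pow_succ'] at this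
          have hd : ∀ i j : ℕ, i < j → (σ : G) ^ i * w * ((σ : G) ^ i)⁻¹ = (σ : G) ^ j * w * ((σ : G) ^ j)⁻¹ →
              j ≤ 3 → Commute (σ : G) w := by
            intro i j hij heq hj3
            refine commute_of_pow_five hσ5 (i := j - i) (by omega) ?_
            rw [show j = i + (j - i) by omega, pow_add, ← cj_cj ((σ : G) ^ i)] at heq
            exact mul_inv_eq_iff_eq_mul.mp (cj_injective _ heq).symm
          have h0 := hit 0; have h1 := hit 1; have h2 := hit 2; have h3 := hit 3
          simp only [List.mem_cons, List.not_mem_nil, or_false] at h0 h1 h2 h3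
          rcases h0 with q0 | q0 | q0 <;> rcases h1 with q1 | q1 | q1 <;>
            first
            | exact hd 0 1 (by omega) (q0.trans q1.symm) (by omega)
            | (rcases h2 with q2 | q2 | q2 <;>
                first
                | exact hd 0 2 (by omega) (q0.trans q2.symm) (by omega)
                | exact hd 1 2 (by omega) (q1.trans q2.symm) (by omega)
                | (rcases h3 with q3 | q3 | q3 <;>
                    first
                    | exact hd 0 3 (by omega) (q0.trans q3.symm) (by omega)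
                    | exact hd 1 3 (by omega) (q1.trans q3.symm) (by omega)
                    | exact hd 2 3 (by omega) (q2.trans q3.symm) (by omega)))
        simp only [List.mem_cons, List.not_mem_nil, or_false] at hy
        rcases hy with rfl | rfl | rfl | rfl | rfl | rfl
        exacts [hgen hfix _ (by simp), hgen hfix _ (by simp), hgen hfix _ (by simp), hgen hfix2 _ (by simp),
          hgen hfix2 _ (by simp), hgen hfix2 _ (by simp)]
      have hmem : ∀ {a b c : G}, IsFac D (kk 0 : G) 3 [a, b, c] → ∀ y ∈ [a, b, c], y ∈ Ds D A.t := by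
        rintro a b c ⟨n1, n2, n3, n4, n5⟩ y hy
        have ha := commute_members hD.1 (by simp) n1 n3 n4 A.ht (by rw [n5]; exact (hKa _).1.symm) y hy
        have hb' := commute_members hD.1 (by simp) n1 n3 n4 hb (by rw [n5]; exact (hKa _).2.symm) y hy
        exact ⟨n3 y hy, fun e' => hab ((e' ▸ hb').symm), ha⟩
      let p : Fin 6 → G := [a₁, b₁, c₁, a₂, b₂, c₂].get
      have hpm : ∀ i, p i ∈ [a₁, b₁, c₁, a₂, b₂, c₂] := fun i => List.get_mem _ _
      have hσ1 : (σ : G) = 1 := five_fixes hG hp h22 A hσ5 (hKa σ).1 p (List.nodup_iff_injective_get.mp hnd6)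
        (fun i => by
          have := hpm i
          simp only [List.mem_cons, List.not_mem_nil, or_false] at this
          rcases this with e' | e' | e' | e' | e' | e' <;> rw [e']
          exacts [hmem f1 _ (by simp), hmem f1 _ (by simp), hmem f1 _ (by simp), hmem f2 _ (by simp),
            hmem f2 _ (by simp), hmem f2 _ (by simp)])
        (fun i j => hcom6 _ (hpm i) _ (hpm j)) fun i => hsix _ (hpm i)
      exact hτ1 (e.symm.injective ((show σ = 1 from Subtype.ext hσ1).trans (map_one e.symm).symm))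
  have hall : ∀ i, (kk i : G) ∈ S := by
    have hnext : ∀ i j : Fin 6, (i : ℕ) + 1 = j → (kk i : G) ∈ S → (kk j : G) ∈ S := by
      intro i j hij hi
      have := hinv (kk i * kk j) (kk i) hi
      rwa [show (kk j : G) = ((kk i * kk j : K) : G) * kk i * ((kk i * kk j : K) : G)⁻¹ from ?_]
      rw [← Subgroup.coe_mul, ← Subgroup.coe_inv, ← Subgroup.coe_mul]
      refine congrArg Subtype.val (e.injective ?_)
      simp only [map_mul, map_inv, hkk, MulEquiv.apply_symm_apply]
      exact hstep i j hij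
    have n1 := hnext 0 1 rfl hk0
    have n2 := hnext 1 2 rfl n1
    have n3 := hnext 2 3 rfl n2
    have n4 := hnext 3 4 rfl n3
    have n5 := hnext 4 5 rfl n4
    intro i
    fin_cases i
    exacts [hk0, n1, n2, n3, n4, n5]
  refine ⟨fun i => (kk i : G), hall, fun i j hij => ?_, fun j hj y hy hpat => ?_⟩
  · rw [← hadj i j hij]
    exact ⟨fun q => by simpa [hkk] using hcK' q, fun q => hcK (by simpa [hkk] using q)⟩
  · obtain ⟨g, rfl⟩ := htr _ hk0 y hy
    refine hdual (e g) j hj fun i => ?_
    rw [← hpat i]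
    have e1 : e (g * kk 0 * g⁻¹) = e g * s 0 * (e g)⁻¹ := by simp [hkk, map_mul, map_inv]
    rw [← e1, show s i = e (kk i) from (e.apply_symm_apply _).symm]
    exact ⟨fun q => hcK q, fun q => hcK' q⟩

end CfsgThreeTrans.M22.Unique
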