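/-
Nine transpositions on the diagram Y332 in type M(22), and the relation of type E7.
-/
import Cfsg.Agent.Lib.ThreeTrans.M22.Unique.Model

set_option autoImplicit false
set_option linter.unusedSectionVars false

namespace CfsgThreeTrans.M22.Unique

open Matrix Cfsg CfsgLib CfsgLib.UnitaryTransvection CfsgLib.UnitarySimple CfsgThreeTrans.M22.Points

universe u

variable {G : Type u} [Group G] [Finite G] {D : Set G}
variable {F : Type} [Field F] [Fintype F] [DecidableEq F] {hF : Fintype.card F = 2 ^ 2}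

local notation "h" => Cfsg.hermForm 6 F 2
local notation "π" => QuotientGroup.mk' (Subgroup.center (Cfsg.SU 6 F 2))

/-- The joined pairs of the diagram, in the order `a, b, c, d, e, f, g, h, i`. -/
def joined (i j : Fin 9) : Bool :=
  let l : List (ℕ × ℕ) := [(0, 1), (1, 2), (2, 3), (3, 4), (3, 7), (4, 5), (5, 6), (7, 8)]
  decide ((i.val, j.val) ∈ l ∨ (j.val, i.val) ∈ l)

/-- Nine members of `D` on the diagram. -/
structure Nine (D : Set G) where
  x : Fin 9 → G
  mem : ∀ i, x i ∈ D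
  inj : Function.Injective x
  comm : ∀ i j, Commute (x i) (x j) ↔ joined i j = false

/-- A chain of six is a basis. -/
theorem chain_perp (hF : Fintype.card F = 2 ^ 2) {x : Fin 6 → Fin 6 → F}
    (hx : ∀ i j, h (x i) (x j) = 0 ↔ ¬ Adj i j) {u : Fin 6 → F} (hu : ∀ i, h u (x i) = 0) : u = 0 := by
  have hind : LinearIndependent F x := by
    rw [Fintype.linearIndependent_iff]
    intro c hc
    have key : ∀ j, ∑ i, c i * h (x i) (x j) = 0 := fun j => by
      have e := congrArg (fun v => h v (x j)) hc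
      simp only [Fin.sum_univ_six, h_add_left, h_smul_left, h_zero_left hF] at e ⊢
      exact e
    have z : ∀ i j, ¬ Adj i j → h (x i) (x j) = 0 := fun i j k => (hx i j).mpr k
    have n : ∀ i j, Adj i j → h (x i) (x j) ≠ 0 := fun i j k e => (hx i j).mp e k
    have k0 := key 0; have k1 := key 1; have k2 := key 2; have k3 := key 3; have k4 := key 4; have k5 := key 5
    simp only [Fin.sum_univ_six, z 0 0 (by decide), z 2 0 (by decide), z 3 0 (by decide), z 4 0 (by decide),
      z 5 0 (by decide), mul_zero, zero_add, add_zero] at k0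
    have c1 : c 1 = 0 := (mul_eq_zero.mp k0).resolve_right (n 1 0 (by decide))
    simp only [Fin.sum_univ_six, z 0 2 (by decide), z 2 2 (by decide), z 4 2 (by decide), z 5 2 (by decide),
      c1, zero_mul, mul_zero, zero_add, add_zero] at k2
    have c3 : c 3 = 0 := (mul_eq_zero.mp k2).resolve_right (n 3 2 (by decide))
    simp only [Fin.sum_univ_six, z 0 4 (by decide), z 1 4 (by decide), z 2 4 (by decide), z 4 4 (by decide),
      c3, zero_mul, mul_zero, zero_add, add_zero] at k4
    have c5 : c 5 = 0 := (mul_eq_zero.mp k4).resolve_right (n 5 4 (by decide))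
    simp only [Fin.sum_univ_six, z 0 5 (by decide), z 1 5 (by decide), z 2 5 (by decide), z 3 5 (by decide),
      z 5 5 (by decide), mul_zero, zero_add, add_zero] at k5
    have c4 : c 4 = 0 := (mul_eq_zero.mp k5).resolve_right (n 4 5 (by decide))
    simp only [Fin.sum_univ_six, z 0 3 (by decide), z 1 3 (by decide), z 3 3 (by decide), z 5 3 (by decide),
      c4, zero_mul, mul_zero, zero_add, add_zero] at k3
    have c2 : c 2 = 0 := (mul_eq_zero.mp k3).resolve_right (n 2 3 (by decide))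
    simp only [Fin.sum_univ_six, z 1 1 (by decide), z 3 1 (by decide), z 4 1 (by decide), z 5 1 (by decide),
      c2, zero_mul, mul_zero, zero_add, add_zero] at k1
    have c0 : c 0 = 0 := (mul_eq_zero.mp k1).resolve_right (n 0 1 (by decide))
    intro i
    fin_cases i <;> assumption
  have htop := hind.span_eq_top_of_card_eq_finrank (by simp)
  refine h_nondeg hF fun y => ?_
  have hy : y ∈ Submodule.span F (Set.range x) := htop ▸ Submodule.mem_top
  induction hy using Submodule.span_induction with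
  | mem v hv => obtain ⟨i, rfl⟩ := hv; exact hu i
  | zero => exact h_zero_right hF u
  | add v w _ _ hv hw => rw [h_add_right hF, hv, hw, add_zero]
  | smul a v _ hv => rw [h_smul_right hF, hv, mul_zero]

/-- Commuting with five members forces commuting with the first. -/
theorem span_step (hD : IsThreeTranspositionClass D) (hp : IsPrimitiveUnderConj D) (hloc : ∃ d ∈ D, LocalOK D d)
    (hZ : Subgroup.center G = ⊥) (B : Data D F hF) {p : Fin 6 → G} (hpD : ∀ i, p i ∈ Ds D B.t)
    (hpc : ∀ i j, i ≠ j → (Commute (p i) (p j) ↔ ¬ Adj i j)) {e : G} (he : e ∈ Ds D B.t)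
    (hec : ∀ i, Commute e (p i) ↔ i ≠ 3) {z : G} (hzt : Commute z B.t) (hze : Commute z e)
    (hzp : ∀ i : Fin 6, i = 1 ∨ i = 2 ∨ i = 3 ∨ i = 4 → Commute z (p i)) : Commute z (p 0) := by
  have hz : z ∈ Subgroup.closure (Ds D B.t) := by
    rw [← centralizer_eq hD hp hloc hZ B B.ht]
    exact Subgroup.mem_centralizer_singleton_iff.mpr hzt.eq
  obtain ⟨k, hk⟩ := QuotientGroup.mk'_surjective _ (B.φ ⟨z, hz⟩)
  choose x hx using fun i => point_surj B (hpD i)
  obtain ⟨y, hy⟩ := point_surj B he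
  have hxh : ∀ i j, h (x i).1 (x j).1 = 0 ↔ ¬ Adj i j := fun i j => by
    by_cases hij : i = j
    · subst hij
      exact ⟨fun _ q => by rcases q with q | q <;> omega, fun _ => (x i).2.2⟩
    · rw [← point_commute_iff B, hx, hx]; exact hpc i j hij
  have hyh : ∀ i, h y.1 (x i).1 = 0 ↔ i ≠ 3 := fun i => by rw [← point_commute_iff B, hy, hx]; exact hec i
  have n : ∀ i j, Adj i j → h (x i).1 (x j).1 ≠ 0 := fun i j q e' => (hxh i j).mp e' q
  have z0 : ∀ i j, ¬ Adj i j → h (x i).1 (x j).1 = 0 := fun i j q => (hxh i j).mpr q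
  set β := h y.1 (x 3).1 / h (x 2).1 (x 3).1 with hβ
  set α := -(β * h (x 2).1 (x 1).1) / h (x 0).1 (x 1).1 with hα
  have hy3 : h y.1 (x 3).1 ≠ 0 := fun e' => (hyh 3).mp e' rfl
  have hβ0 : β ≠ 0 := div_ne_zero hy3 (n 2 3 (by decide))
  have hα0 : α ≠ 0 := div_ne_zero (neg_ne_zero.mpr (mul_ne_zero hβ0 (n 2 1 (by decide)))) (n 0 1 (by decide))
  have hdec : y.1 - α • (x 0).1 - β • (x 2).1 = 0 := by
    refine chain_perp hF hxh fun i => ?_
    rw [h_sub_left, h_sub_left, h_smul_left, h_smul_left]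
    fin_cases i
    · show h y.1 (x 0).1 - α * h (x 0).1 (x 0).1 - β * h (x 2).1 (x 0).1 = 0
      rw [(hyh 0).mpr (by decide), z0 0 0 (by decide), z0 2 0 (by decide)]; ring
    · show h y.1 (x 1).1 - α * h (x 0).1 (x 1).1 - β * h (x 2).1 (x 1).1 = 0
      rw [(hyh 1).mpr (by decide), hα, div_mul_cancel₀ _ (n 0 1 (by decide))]; ring
    · show h y.1 (x 2).1 - α * h (x 0).1 (x 2).1 - β * h (x 2).1 (x 2).1 = 0
      rw [(hyh 2).mpr (by decide), z0 0 2 (by decide), z0 2 2 (by decide)]; ring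
    · show h y.1 (x 3).1 - α * h (x 0).1 (x 3).1 - β * h (x 2).1 (x 3).1 = 0
      rw [z0 0 3 (by decide), hβ, div_mul_cancel₀ _ (n 2 3 (by decide))]; ring
    · show h y.1 (x 4).1 - α * h (x 0).1 (x 4).1 - β * h (x 2).1 (x 4).1 = 0
      rw [(hyh 4).mpr (by decide), z0 0 4 (by decide), z0 2 4 (by decide)]; ring
    · show h y.1 (x 5).1 - α * h (x 0).1 (x 5).1 - β * h (x 2).1 (x 5).1 = 0
      rw [(hyh 5).mpr (by decide), z0 0 5 (by decide), z0 2 5 (by decide)]; ring
  obtain ⟨l2, h20, e2⟩ := eigen hD B hz hk.symm (x 2) (by rw [hx]; exact hzp 2 (by decide))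
  obtain ⟨l3, h30, e3⟩ := eigen hD B hz hk.symm (x 3) (by rw [hx]; exact hzp 3 (by decide))
  obtain ⟨ly, hy0, ey⟩ := eigen hD B hz hk.symm y (by rw [hy]; exact hze)
  have h23 := eigen_eq hF k h20 h30 e2 e3 (n 2 3 (by decide))
  have hy3' := eigen_eq hF k hy0 h30 ey e3 hy3
  have hl : ly = l2 := hy3'.trans h23.symm
  have hy' : α • (x 0).1 = y.1 - β • (x 2).1 := by
    have := sub_eq_zero.mp hdec
    rw [← this]; abel
  refine hx 0 ▸ commute_of_eigen hD B hz hk.symm (x 0) (l := l2) (smul_right_injective _ hα0 ?_)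
  show α • (mat k *ᵥ (x 0).1) = α • (l2 • (x 0).1)
  rw [← mulVec_smul, hy', mulVec_sub, mulVec_smul, ey, e2, hl, smul_comm α, hy', smul_sub, smul_comm β]

variable (hG : IsThreeTranspositionGroup D) (hp : IsPrimitiveUnderConj D) (h22 : IsOfTypeM22 G D)
include hG hp h22

/-- An element centralising the pair and five members of the chain is trivial. -/
theorem five_trivial (A : Data D F hF) {b : G} (hb : b ∈ D) (hab : ¬ Commute A.t b) {p : Fin 6 → G}
    (hpS : ∀ i, p i ∈ Ds D A.t ∩ Ds D b) (hpc : ∀ i j, i ≠ j → (Commute (p i) (p j) ↔ ¬ Adj i j))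
    (hno : ∀ y ∈ Ds D A.t ∩ Ds D b, ¬ ∀ i, (Commute y (p i) ↔ i ≠ 5)) {z : G} (hzt : Commute z A.t)
    (hzb : Commute z b) (hzp : ∀ i : Fin 6, i ≠ 5 → Commute z (p i)) : z = 1 := by
  have hD := cls_of_group_prim hG hp
  have hz : z ∈ Subgroup.closure (Ds D A.t) := by
    rw [← centralizer_eq hD hp (local_of_M22 h22) h22.1 A A.ht]
    exact Subgroup.mem_centralizer_singleton_iff.mpr hzt.eq
  obtain ⟨k, hk⟩ := QuotientGroup.mk'_surjective _ (A.φ ⟨z, hz⟩)
  choose x hx using fun i => point_surj A (hpS i).1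
  have hxh : ∀ i j, h (x i).1 (x j).1 = 0 ↔ ¬ Adj i j := fun i j => by
    by_cases hij : i = j
    · subst hij
      exact ⟨fun _ q => by rcases q with q | q <;> omega, fun _ => (x i).2.2⟩
    · rw [← point_commute_iff A, hx, hx]; exact hpc i j hij
  have n : ∀ i j, Adj i j → h (x i).1 (x j).1 ≠ 0 := fun i j q e' => (hxh i j).mp e' q
  have z0 : ∀ i j, ¬ Adj i j → h (x i).1 (x j).1 = 0 := fun i j q => (hxh i j).mpr q
  choose l hl0 hle using fun i : {i : Fin 6 // i ≠ 5} =>
    eigen hD A hz hk.symm (x i.1) (by rw [hx]; exact hzp i.1 i.2)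
  set L := l ⟨0, by decide⟩ with hL
  have hstep : ∀ (i j : {i : Fin 6 // i ≠ 5}), Adj i.1 j.1 → l j = l i := fun i j q =>
    (eigen_eq hF k (hl0 i) (hl0 j) (hle i) (hle j) (n _ _ q)).symm
  have q1 := hstep ⟨0, by decide⟩ ⟨1, by decide⟩ (by decide)
  have q2 := hstep ⟨1, by decide⟩ ⟨2, by decide⟩ (by decide)
  have q3 := hstep ⟨2, by decide⟩ ⟨3, by decide⟩ (by decide)
  have q4 := hstep ⟨3, by decide⟩ ⟨4, by decide⟩ (by decide)
  have hk5 : ∀ i : Fin 6, i ≠ 5 → mat k *ᵥ (x i).1 = L • (x i).1 := by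
    intro i hi
    rw [hle ⟨i, hi⟩]
    congr 1
    fin_cases i
    · rfl
    · exact q1
    · exact q2.trans q1
    · exact q3.trans (q2.trans q1)
    · exact q4.trans (q3.trans (q2.trans q1))
    · exact absurd rfl hi
  have hL0 : L ≠ 0 := hl0 _
  set β := -h (x 0).1 (x 1).1 / h (x 2).1 (x 1).1 with hβ
  set γ := -(β * h (x 2).1 (x 3).1) / h (x 4).1 (x 3).1 with hγ
  set w : Fin 6 → F := (x 0).1 + β • (x 2).1 + γ • (x 4).1 with hw
  have hwx : ∀ i : Fin 6, i ≠ 5 → h w (x i).1 = 0 := by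
    intro i hi
    rw [hw, h_add_left, h_add_left, h_smul_left, h_smul_left]
    fin_cases i
    · show h (x 0).1 (x 0).1 + β * h (x 2).1 (x 0).1 + γ * h (x 4).1 (x 0).1 = 0
      rw [z0 0 0 (by decide), z0 2 0 (by decide), z0 4 0 (by decide)]; ring
    · show h (x 0).1 (x 1).1 + β * h (x 2).1 (x 1).1 + γ * h (x 4).1 (x 1).1 = 0
      rw [z0 4 1 (by decide), hβ, div_mul_cancel₀ _ (n 2 1 (by decide))]; ring
    · show h (x 0).1 (x 2).1 + β * h (x 2).1 (x 2).1 + γ * h (x 4).1 (x 2).1 = 0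
      rw [z0 0 2 (by decide), z0 2 2 (by decide), z0 4 2 (by decide)]; ring
    · show h (x 0).1 (x 3).1 + β * h (x 2).1 (x 3).1 + γ * h (x 4).1 (x 3).1 = 0
      rw [z0 0 3 (by decide), hγ, div_mul_cancel₀ _ (n 4 3 (by decide))]; ring
    · show h (x 0).1 (x 4).1 + β * h (x 2).1 (x 4).1 + γ * h (x 4).1 (x 4).1 = 0
      rw [z0 0 4 (by decide), z0 2 4 (by decide), z0 4 4 (by decide)]; ring
    · exact absurd rfl hi
  have hw5 : h w (x 5).1 ≠ 0 := by
    have hβ0 : β ≠ 0 := div_ne_zero (neg_ne_zero.mpr (n 0 1 (by decide))) (n 2 1 (by decide))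
    have hγ0 : γ ≠ 0 := div_ne_zero (neg_ne_zero.mpr (mul_ne_zero hβ0 (n 2 3 (by decide)))) (n 4 3 (by decide))
    rw [hw, h_add_left, h_add_left, h_smul_left, h_smul_left, z0 0 5 (by decide), z0 2 5 (by decide), mul_zero,
      zero_add, zero_add]
    exact mul_ne_zero hγ0 (n 4 5 (by decide))
  have hw0 : w ≠ 0 := fun e' => hw5 (by rw [e', h_zero_left hF])
  have hxw : ∀ i : Fin 6, i ≠ 5 → h (x i).1 w = 0 := fun i hi => by rw [← h_swap hF, hwx i hi, map_zero]
  have hww : h w w = 0 := by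
    have a := hxw 0 (by decide); have b' := hxw 2 (by decide); have c := hxw 4 (by decide)
    nth_rewrite 1 [hw]
    rw [h_add_left, h_add_left, h_smul_left, h_smul_left, a, b', c]
    ring
  set u := mat k *ᵥ (x 5).1 - L • (x 5).1 with hu
  set μ := h u (x 5).1 / h w (x 5).1 with hμ
  have huw : u = μ • w := by
    refine sub_eq_zero.mp (chain_perp hF hxh fun i => ?_)
    rw [h_sub_left, h_smul_left]
    by_cases hi : i = 5
    · subst hi; rw [hμ, div_mul_cancel₀ _ hw5, sub_self]
    · rw [hwx i hi, mul_zero, sub_zero, hu, h_sub_left, h_smul_left]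
      have e' := su_h k (x 5).1 (x i).1
      rw [hk5 i hi, h_smul_right hF] at e'
      rw [← e', ← mul_assoc, norm_one hF hL0, one_mul, sub_self]
  have hkx : mat k *ᵥ (x 5).1 = L • (x 5).1 + μ • w := by rw [← huw, hu]; abel
  have hspan : Submodule.span F (Set.range fun i => (x i).1) = ⊤ := by
    have hind : LinearIndependent F fun i => (x i).1 := by
      rw [Fintype.linearIndependent_iff]
      intro c hc i
      by_contra hci
      have key : ∀ j, ∑ i, c i * h (x i).1 (x j).1 = 0 := fun j => by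
        have e := congrArg (fun v => h v (x j).1) hc
        simp only [Fin.sum_univ_six, h_add_left, h_smul_left, h_zero_left hF] at e ⊢
        exact e
      have k0 := key 0; have k1 := key 1; have k2 := key 2; have k3 := key 3; have k4 := key 4; have k5 := key 5
      simp only [Fin.sum_univ_six, z0 0 0 (by decide), z0 2 0 (by decide), z0 3 0 (by decide), z0 4 0 (by decide),
        z0 5 0 (by decide), mul_zero, zero_add, add_zero] at k0
      have c1 : c 1 = 0 := (mul_eq_zero.mp k0).resolve_right (n 1 0 (by decide))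
      simp only [Fin.sum_univ_six, z0 0 2 (by decide), z0 2 2 (by decide), z0 4 2 (by decide), z0 5 2 (by decide),
        c1, zero_mul, mul_zero, zero_add, add_zero] at k2
      have c3 : c 3 = 0 := (mul_eq_zero.mp k2).resolve_right (n 3 2 (by decide))
      simp only [Fin.sum_univ_six, z0 0 4 (by decide), z0 1 4 (by decide), z0 2 4 (by decide), z0 4 4 (by decide),
        c3, zero_mul, mul_zero, zero_add, add_zero] at k4
      have c5 : c 5 = 0 := (mul_eq_zero.mp k4).resolve_right (n 5 4 (by decide))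
      simp only [Fin.sum_univ_six, z0 0 5 (by decide), z0 1 5 (by decide), z0 2 5 (by decide), z0 3 5 (by decide),
        z0 5 5 (by decide), mul_zero, zero_add, add_zero] at k5
      have c4 : c 4 = 0 := (mul_eq_zero.mp k5).resolve_right (n 4 5 (by decide))
      simp only [Fin.sum_univ_six, z0 0 3 (by decide), z0 1 3 (by decide), z0 3 3 (by decide), z0 5 3 (by decide),
        c4, zero_mul, mul_zero, zero_add, add_zero] at k3
      have c2 : c 2 = 0 := (mul_eq_zero.mp k3).resolve_right (n 2 3 (by decide))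
      simp only [Fin.sum_univ_six, z0 1 1 (by decide), z0 3 1 (by decide), z0 4 1 (by decide), z0 5 1 (by decide),
        c2, zero_mul, mul_zero, zero_add, add_zero] at k1
      have c0 : c 0 = 0 := (mul_eq_zero.mp k1).resolve_right (n 0 1 (by decide))
      fin_cases i <;> contradiction
    exact hind.span_eq_top_of_card_eq_finrank (by simp)
  have hext : ∀ (M N : Matrix (Fin 6) (Fin 6) F), (∀ i, M *ᵥ (x i).1 = N *ᵥ (x i).1) → ∀ v, M *ᵥ v = N *ᵥ v := by
    intro M N hMN v
    have hv : v ∈ Submodule.span F (Set.range fun i => (x i).1) := hspan ▸ Submodule.mem_top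
    induction hv using Submodule.span_induction with
    | mem v hv => obtain ⟨i, rfl⟩ := hv; exact hMN i
    | zero => rw [mulVec_zero, mulVec_zero]
    | add v v' _ _ hv hv' => rw [mulVec_add, mulVec_add, hv, hv']
    | smul a v _ hv => rw [mulVec_smul, mulVec_smul, hv]
  by_cases hμ0 : μ = 0
  · have hk1 : A.φ ⟨z, hz⟩ = 1 := by
      rw [← hk]
      refine mk_of_scalar hF (l := L) fun v => ?_
      rw [hext (mat k) (L • 1) (fun i => ?_) v, smul_mulVec, one_mulVec]
      rw [smul_mulVec, one_mulVec]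
      by_cases hi : i = 5
      · subst hi; rw [hkx, hμ0, zero_smul, add_zero]
      · exact hk5 i hi
    rcases of_scalar hD hp h22.1 A hz hk1 with e' | e'
    · exact e'
    · exact absurd (e' ▸ hzb) hab
  exfalso
  set a := h (x 5).1 w with ha
  have ha0 : a ≠ 0 := fun e' => hw5 (by rw [← h_swap hF, ← ha, e', map_zero])
  have hm : μ * frob hF L = a := by
    have e' := su_h k (x 5).1 (x 5).1
    rw [hkx, (x 5).2.2, h_add_left, h_add_right hF, h_add_right hF, h_smul_left, h_smul_left, h_smul_left,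
      h_smul_left, h_smul_right hF, h_smul_right hF, h_smul_right hF, h_smul_right hF, (x 5).2.2, hww, ← ha,
      ← h_swap hF (x 5).1 w, ← ha] at e'
    simp only [mul_zero, zero_add, add_zero] at e'
    set m := μ * frob hF L
    have hT : frob hF (frob hF m * a) = frob hF m * a := by
      rw [map_mul, frob_frob, show frob hF m = frob hF μ * L by rw [show m = μ * frob hF L from rfl, map_mul, frob_frob]]
      linear_combination e' - frob hF μ * L * a * two_zero hF
    rcases fixed hF hT with hh | hh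
    · exact absurd hh (mul_ne_zero ((map_ne_zero _).mpr (mul_ne_zero hμ0 ((map_ne_zero _).mpr hL0))) ha0)
    · calc m = m * (frob hF a * a) := by rw [norm_fix hF ha0, mul_one]
        _ = frob hF (frob hF m * a) * a := by rw [map_mul, frob_frob]; ring
        _ = a := by rw [hh, map_one, one_mul]
  have hμ' : μ = L * a := by
    rw [← hm, mul_comm L, mul_assoc, norm_fix hF hL0, mul_one]
  set q := k * (tu hF w)⁻¹
  have hq : π q = 1 := by
    refine mk_of_scalar hF (l := L) fun v => ?_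
    have key : ∀ v, mat k *ᵥ v = (L • (mat (tu hF w))) *ᵥ v := by
      refine hext _ _ fun i => ?_
      rw [smul_mulVec, tu_mulVec hF hww]
      by_cases hi : i = 5
      · subst hi; rw [hkx, ← ha, smul_add L, smul_smul L a w, ← hμ']
      · rw [hk5 i hi, hxw i hi, zero_smul, add_zero]
    rw [show q = k * (tu hF w)⁻¹ from rfl, mat_mul, ← mulVec_mulVec, key, smul_mulVec, mat_inv_mulVec]
  set W := point A ⟨w, hw0, hww⟩ with hW
  have hWm : W ∈ Ds D A.t := point_mem A _
  have hWi : W⁻¹ = W := inv_self hD.1 hWm.1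
  have hφ : A.φ ⟨z, hz⟩ = A.φ ⟨W, point_mem' A _⟩ := by
    rw [point_φ, ← hk]
    show π k = π (tu hF w)
    rw [show k = q * tu hF w by simp [q], map_mul, hq, one_mul]
  have hWp : ∀ i, Commute W (p i) ↔ i ≠ 5 := fun i => by
    rw [← hx i, hW, point_commute_iff A]
    exact ⟨fun e' hi => hw5 (hi ▸ e'), hwx i⟩
  rcases of_scalar hD hp h22.1 A (g := z * W⁻¹) (mul_mem hz (inv_mem (point_mem' A _))) (by
    rw [show (⟨z * W⁻¹, _⟩ : ↥(Subgroup.closure (Ds D A.t))) = ⟨z, hz⟩ * ⟨W, point_mem' A _⟩⁻¹ from rfl,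
      map_mul, map_inv, hφ, mul_inv_cancel]) with e' | e'
  · have hzW : z = W := mul_inv_eq_one.mp e'
    rw [hzW] at hzb
    refine hno W ⟨hWm, hWm.1, fun e'' => hab ?_, hzb.symm⟩ hWp
    exact e'' ▸ hWm.2.2
  · have hzW : z = A.t * W := mul_inv_eq_iff_eq_mul.mp e'
    rw [hzW] at hzb
    exact hab (((commute_mul_iff hD.1 A.ht hWm.1 hb hWm.2.1.symm hWm.2.2).mp hzb.symm).1.symm)

/-- The diagram and its relation of type E7. -/
theorem exists_nine : ∃ N : Nine D, ∀ z : G,
    (∀ i : Fin 9, i ≠ 0 → i ≠ 8 → Commute z (N.x i)) → z = 1 := by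
  have hD := cls_of_group_prim hG hp
  obtain ⟨tt, -, -, -, F, iF, iFt, iDec, hF, ⟨A⟩⟩ := exists_full hG hp h22
  obtain ⟨b, hb, hab⟩ := exists_noncommute hD hp.2.1 A.ht
  obtain ⟨k, hk, hkc, hno⟩ := exists_chain hG hp h22 A hb hab
  choose x hx using fun i => point_surj A (hk i).1
  have hxh : ∀ i j, i ≠ j → (Cfsg.hermForm 6 F 2 (x i).1 (x j).1 = 0 ↔ ¬ Adj i j) := fun i j hij => by
    rw [← point_commute_iff A, hx, hx]; exact hkc i j hij
  have n : ∀ i j, Adj i j → Cfsg.hermForm 6 F 2 (x i).1 (x j).1 ≠ 0 := fun i j q e' =>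
    (hxh i j (fun e => by subst e; rcases q with q | q <;> omega)).mp e' q
  set β := -Cfsg.hermForm 6 F 2 (x 0).1 (x 1).1 / Cfsg.hermForm 6 F 2 (x 2).1 (x 1).1 with hβ
  set v : Fin 6 → F := (x 0).1 + β • (x 2).1 with hv
  have hvx : ∀ i : Fin 6, Cfsg.hermForm 6 F 2 v (x i).1 = 0 ↔ i ≠ 3 := by
    intro i
    rw [hv, h_add_left, h_smul_left]
    fin_cases i
    · show Cfsg.hermForm 6 F 2 (x 0).1 (x 0).1 + β * Cfsg.hermForm 6 F 2 (x 2).1 (x 0).1 = 0 ↔ _
      rw [(x 0).2.2, (hxh 2 0 (by decide)).mpr (by decide)]; simp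
    · show Cfsg.hermForm 6 F 2 (x 0).1 (x 1).1 + β * Cfsg.hermForm 6 F 2 (x 2).1 (x 1).1 = 0 ↔ _
      rw [hβ, div_mul_cancel₀ _ (n 2 1 (by decide))]; simp
    · show Cfsg.hermForm 6 F 2 (x 0).1 (x 2).1 + β * Cfsg.hermForm 6 F 2 (x 2).1 (x 2).1 = 0 ↔ _
      rw [(x 2).2.2, (hxh 0 2 (by decide)).mpr (by decide)]; simp
    · show Cfsg.hermForm 6 F 2 (x 0).1 (x 3).1 + β * Cfsg.hermForm 6 F 2 (x 2).1 (x 3).1 = 0 ↔ _
      rw [(hxh 0 3 (by decide)).mpr (by decide)]
      simp [hβ, n 2 1 (by decide), n 0 1 (by decide), n 2 3 (by decide)]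
    · show Cfsg.hermForm 6 F 2 (x 0).1 (x 4).1 + β * Cfsg.hermForm 6 F 2 (x 2).1 (x 4).1 = 0 ↔ _
      rw [(hxh 0 4 (by decide)).mpr (by decide), (hxh 2 4 (by decide)).mpr (by decide)]; simp
    · show Cfsg.hermForm 6 F 2 (x 0).1 (x 5).1 + β * Cfsg.hermForm 6 F 2 (x 2).1 (x 5).1 = 0 ↔ _
      rw [(hxh 0 5 (by decide)).mpr (by decide), (hxh 2 5 (by decide)).mpr (by decide)]; simp
  have hv0 : v ≠ 0 := fun e' => absurd rfl ((hvx 3).mp (by rw [e', h_zero_left hF]))
  have hvv : Cfsg.hermForm 6 F 2 v v = 0 := by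
    have a0 : Cfsg.hermForm 6 F 2 (x 0).1 v = 0 := by rw [← h_swap hF, (hvx 0).mpr (by decide), map_zero]
    have a2 : Cfsg.hermForm 6 F 2 (x 2).1 v = 0 := by rw [← h_swap hF, (hvx 2).mpr (by decide), map_zero]
    nth_rewrite 1 [hv]
    rw [h_add_left, h_smul_left, a0, a2, mul_zero, add_zero]
  set c := point A ⟨v, hv0, hvv⟩ with hcdef
  have hc : c ∈ Ds D A.t := point_mem A _
  have hcp : ∀ i, Commute c (k i) ↔ i ≠ 3 := fun i => by
    rw [← hx i, hcdef, point_commute_iff A]; exact hvx i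
  have hcb : ¬ Commute b c := fun q => hno 3 (Or.inl rfl) c
    ⟨hc, hc.1, fun e' => hab (e' ▸ hc.2.2), q⟩ hcp
  -- the nine members a, b, c, d, e, f, g, h, i
  let y : Fin 9 → G := ![A.t, b, c, k 3, k 2, k 1, k 0, k 4, k 5]
  have hyD : ∀ i, y i ∈ D := fun i => by
    fin_cases i
    exacts [A.ht, hb, hc.1, (hk 3).1.1, (hk 2).1.1, (hk 1).1.1, (hk 0).1.1, (hk 4).1.1, (hk 5).1.1]
  have hup : ∀ i j : Fin 9, i < j → (Commute (y i) (y j) ↔ joined i j = false) := by
    have ka : ∀ i, Commute A.t (k i) := fun i => (hk i).1.2.2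
    have kb : ∀ i, Commute b (k i) := fun i => (hk i).2.2.2
    have hcc : ∀ i, Commute (k i) c ↔ i ≠ 3 := fun i => by rw [Commute.symm_iff]; exact hcp i
    intro i j hij
    fin_cases i <;> fin_cases j <;> first | (exact absurd hij (by decide)) | skip
    all_goals simp only [y, Fin.zero_eta, Fin.mk_one, Fin.reduceFinMk, Matrix.cons_val_zero, Matrix.cons_val_one, Matrix.cons_val]
    all_goals first
      | exact ⟨fun q => absurd q hab, fun q => absurd q (by decide)⟩
      | exact ⟨fun q => absurd q hcb, fun q => absurd q (by decide)⟩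
      | exact ⟨fun _ => by decide, fun _ => hc.2.2⟩
      | exact ⟨fun _ => by decide, fun _ => ka _⟩
      | exact ⟨fun _ => by decide, fun _ => kb _⟩
      | (rw [hcp]; decide)
      | (rw [hkc _ _ (by decide)]; decide)
  have hcomm : ∀ i j, Commute (y i) (y j) ↔ joined i j = false := by
    intro i j
    rcases lt_trichotomy i j with q | q | q
    · exact hup i j q
    · subst q; exact ⟨fun _ => (by decide : ∀ i : Fin 9, joined i i = false) i, fun _ => Commute.refl _⟩
    · rw [Commute.symm_iff, hup j i q, (by decide : ∀ i j : Fin 9, joined i j = joined j i) i j]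
  have hinj : Function.Injective y := by
    intro i j e'
    refine (by decide : ∀ i j : Fin 9, (∀ l, joined i l = joined j l) → i = j) i j fun l => ?_
    have := (hcomm i l).symm.trans (e' ▸ hcomm j l)
    cases q1 : joined i l <;> cases q2 : joined j l <;> simp_all
  refine ⟨⟨y, hyD, hinj, hcomm⟩, fun z hz => ?_⟩
  have zb : Commute z b := hz 1 (by decide) (by decide)
  have zk : ∀ i : Fin 6, i ≠ 5 → Commute z (k i) := fun i hi => by
    fin_cases i
    exacts [hz 6 (by decide) (by decide), hz 5 (by decide) (by decide), hz 4 (by decide) (by decide),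
      hz 3 (by decide) (by decide), hz 7 (by decide) (by decide), absurd rfl hi]
  obtain ⟨B, hB⟩ := exists_at hD A (hyD 6)
  have za : Commute z A.t := by
    let p : Fin 6 → G := ![y 0, y 1, y 2, y 3, y 7, y 8]
    have hmap : ∀ i, p i = y (![0, 1, 2, 3, 7, 8] i) := fun i => by fin_cases i <;> rfl
    have hps : ∀ i, p i ∈ Ds D B.t := fun i => by
      rw [hB, hmap]
      have h6 : ∀ i : Fin 6, (![0, 1, 2, 3, 7, 8] i : Fin 9) ≠ 6 ∧ joined 6 (![0, 1, 2, 3, 7, 8] i) = false := by
        decide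
      exact ⟨hyD _, fun q => (h6 i).1 (hinj q), (hcomm _ _).mpr (h6 i).2⟩
    refine span_step hD hp (local_of_M22 h22) h22.1 B hps (fun i j hij => ?_) (e := y 4) ?_ (fun i => ?_)
      (hB ▸ hz 6 (by decide) (by decide)) (hz 4 (by decide) (by decide)) ?_
    · rw [hmap, hmap, hcomm]
      revert i j
      decide
    · rw [hB]
      exact ⟨hyD _, fun q => absurd (hinj q) (by decide), (hcomm _ _).mpr (by decide)⟩
    · rw [hmap, hcomm]
      revert i
      decide
    · intro i hi
      rw [hmap]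
      refine hz _ ?_ ?_ <;> (revert i; decide)
  exact five_trivial hG hp h22 A hb hab hk hkc (hno 5 (Or.inr rfl)) za zb zk

end CfsgThreeTrans.M22.Unique
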