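/-
A group of type M(22) is the presented group Fi22.
-/
import Cfsg.Agent.Lib.ThreeTrans.M22.Unique.Diagram
import Cfsg.Agent.Lib.ThreeTrans.M22.Params
import Cfsg.Agent.Lib.CosetEnum.Relations
import Cfsg.Agent.Lib.CosetEnum.Fi22Class.Main
import Cfsg.Agent.Lib.CosetEnum.E7Cen.Main
import Cfsg.Agent.Lib.CosetEnum.Y332.Main
import Cfsg.Agent.S1696

set_option autoImplicit false
set_option maxRecDepth 100000
set_option linter.unusedSectionVars false

namespace CfsgThreeTrans.M22.Unique

open Cfsg CfsgLib.CosetEnum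

variable {G : Type*} [Group G] [Finite G] {D : Set G}

/-- The members of the diagram, numbered. -/
noncomputable def tau (N : Nine D) (i : ℕ) : G := if hi : i < 9 then N.x ⟨i, hi⟩ else 1

/-- The members b, c, d, e, f, g, h, numbered from zero. -/
noncomputable def tau7 (N : Nine D) (i : ℕ) : G := if i < 7 then tau N (i + 1) else 1

/-- The word of type E7. -/
def zE7 : List ℕ := (List.replicate 9 [0, 1, 2, 3, 4, 5, 6]).flatten

theorem zE7_fix : allN 63 (fun d => Nat.beq (runT E7Cen.table 7 zE7 d) d) = true := by decide +kernel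

theorem spider_fix : allN 3510 (fun d => Nat.beq (runT Y332.table 9 (extraWFi22.getD 0 []) d) d) = true := by
  decide +kernel

theorem arm_fix : allN 3510 (fun d => Nat.beq (runT Y332.table 9 (extraWFi22.getD 1 []) d) d) = true := by
  decide +kernel

theorem hid332 : ∀ i < presY332.k, presY332.idx (presY332.gen i) = i := by decide

theorem hid7 : ∀ i < presE7.k, presE7.idx (presE7.gen i) = i := by decide

theorem label22 : ∀ i < 9, ∀ j < 9, (presFi22.m i j = 1 ∧ i = j) ∨
    (presFi22.m i j = 2 ∧ joined (Fin.ofNat 9 i) (Fin.ofNat 9 j) = false) ∨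
    (presFi22.m i j = 3 ∧ joined (Fin.ofNat 9 i) (Fin.ofNat 9 j) = true) := by decide +kernel

theorem label7 : ∀ i < 7, ∀ j < 7, (presE7.m i j = 1 ∧ i + 1 = j + 1) ∨
    (presE7.m i j = 2 ∧ joined (Fin.ofNat 9 (i + 1)) (Fin.ofNat 9 (j + 1)) = false) ∨
    (presE7.m i j = 3 ∧ joined (Fin.ofNat 9 (i + 1)) (Fin.ofNat 9 (j + 1)) = true) := by decide +kernel

section

variable (hD : IsThreeTranspositionSet D) (N : Nine D)

theorem tau_ofNat {i : ℕ} (hi : i < 9) : tau N i = N.x (Fin.ofNat 9 i) := by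
  rw [tau, dif_pos hi]
  exact congrArg N.x (Fin.ext (Nat.mod_eq_of_lt hi).symm)

include hD in
theorem tau_sq (i : ℕ) : tau N i * tau N i = 1 := by
  unfold tau
  split
  · exact CfsgThreeTrans.mul_self hD (N.mem _)
  · exact one_mul 1

include hD in
theorem tau7_sq (i : ℕ) : tau7 N i * tau7 N i = 1 := by
  unfold tau7
  split
  · exact tau_sq hD N _
  · exact one_mul 1

include hD in
theorem tau_cox {i j : ℕ} (hi : i < 9) (hj : j < 9) {m : ℕ} (hm : (m = 1 ∧ i = j) ∨
    (m = 2 ∧ joined (Fin.ofNat 9 i) (Fin.ofNat 9 j) = false) ∨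
    (m = 3 ∧ joined (Fin.ofNat 9 i) (Fin.ofNat 9 j) = true)) : (tau N i * tau N j) ^ m = 1 := by
  rcases hm with ⟨rfl, rfl⟩ | ⟨rfl, hm⟩ | ⟨rfl, hm⟩
  · rw [pow_one, tau_sq hD]
  · rw [tau_ofNat N hi, tau_ofNat N hj, ((N.comm _ _).mpr hm).mul_pow, pow_two, pow_two,
      CfsgThreeTrans.mul_self hD (N.mem _), CfsgThreeTrans.mul_self hD (N.mem _), one_mul]
  · rw [tau_ofNat N hi, tau_ofNat N hj]
    exact CfsgThreeTrans.pow_three hD (N.mem _) (N.mem _) fun q =>
      Bool.false_ne_true (((N.comm _ _).mp q).symm.trans hm)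

include hD in
theorem tau_braid (i j : ℕ) (hi : i < 9) (hj : j < 9)
    (hij : joined (Fin.ofNat 9 i) (Fin.ofNat 9 j) = true) :
    tau N i * tau N j * tau N i = tau N j * tau N i * tau N j := by
  rw [tau_ofNat N hi, tau_ofNat N hj]
  exact CfsgThreeTrans.braid hD (N.mem _) (N.mem _) fun q =>
    Bool.false_ne_true (((N.comm _ _).mp q).symm.trans hij)

theorem tau_comm (i j : ℕ) (hi : i < 9) (hj : j < 9)
    (hij : joined (Fin.ofNat 9 i) (Fin.ofNat 9 j) = false) : Commute (tau N i) (tau N j) := by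
  rw [tau_ofNat N hi, tau_ofNat N hj]
  exact (N.comm _ _).mpr hij

include hD in
/-- Conjugates of `t` by the image of `φ` propagate along edges of the diagram. -/
theorem reach_step {H : Type*} [Group H] (φ : H →* G) {t : G} {i j : ℕ} (hi : i < 9) (hj : j < 9)
    (hij : joined (Fin.ofNat 9 i) (Fin.ofNat 9 j) = true) (a b : H) (ha : φ a = tau N i) (hb : φ b = tau N j)
    (h : ∃ u, φ u * t * (φ u)⁻¹ = tau N i) : ∃ u, φ u * t * (φ u)⁻¹ = tau N j := by
  obtain ⟨u, hu⟩ := h
  refine ⟨a * b * u, ?_⟩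
  simp only [map_mul, mul_inv_rev, ha, hb]
  have e := tau_braid hD N i j hi hj hij
  calc tau N i * tau N j * φ u * t * ((φ u)⁻¹ * ((tau N j)⁻¹ * (tau N i)⁻¹))
      = tau N i * tau N j * (φ u * t * (φ u)⁻¹) * ((tau N j)⁻¹ * (tau N i)⁻¹) := by group
    _ = tau N i * tau N j * tau N i * ((tau N j)⁻¹ * (tau N i)⁻¹) := by rw [hu]
    _ = tau N j := by rw [e]; group

theorem tau7_map : ∀ w : List ℕ, (∀ x ∈ w, x < 7) → (w.map (tau7 N)).prod = ((w.map (· + 1)).map (tau N)).prod := by
  intro w hw
  rw [List.map_map]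
  exact congrArg List.prod (List.map_congr_left fun x hx => by simp [tau7, hw x hx])

include hD in
/-- The relation of type E7. -/
theorem e7_word (htriv : ∀ z : G, (∀ i : Fin 9, i ≠ 0 → i ≠ 8 → Commute z (N.x i)) → z = 1) :
    (((List.replicate 9 [1, 2, 3, 4, 5, 6, 7]).flatten).map (tau N)).prod = 1 := by
  have hrel : ∀ w ∈ presE7.rels, (w.map (tau7 N)).prod = 1 := by
    intro w hw
    rcases presE7.mem_rels hw with ⟨i, hi, j, hj, rfl⟩ | hw'
    · have hi7 : i < 7 := hi
      have hj7 : j < 7 := hj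
      rw [prod_coxWord, tau7, tau7, if_pos hi7, if_pos hj7]
      refine tau_cox hD N (by omega) (by omega) ?_
      rcases label7 i hi7 j hj7 with q | q | q
      · exact Or.inl q
      · exact Or.inr (Or.inl q)
      · exact Or.inr (Or.inr q)
    · simp at hw'
  obtain ⟨φ, hφ⟩ := presE7.exists_hom (tau7 N) (tau7_sq hD N) hrel hid7
  have hσ : ∀ i < 7, φ (presE7.σ i) = tau N (i + 1) := fun i hi => (hφ i hi).trans (if_pos hi)
  have ht : ∀ w ∈ E7Cen.cert.hw, Commute (φ (w.map presE7.σ).prod) (tau N 6) := by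
    intro w hw
    rw [presE7.hom_prod hφ w (E7Cen.hhw w hw), tau7_map N w (E7Cen.hhw w hw)]
    change w ∈ E7Cen.hw at hw
    simp only [E7Cen.hw, List.mem_cons, List.not_mem_nil, or_false] at hw
    have one : ∀ i : ℕ, i < 9 → joined (Fin.ofNat 9 i) (Fin.ofNat 9 6) = false →
        Commute (([i] : List ℕ).map (tau N)).prod (tau N 6) := fun i hi hij => by
      simpa using tau_comm N i 6 hi (by omega) hij
    rcases hw with rfl | rfl | rfl | rfl | rfl | rfl | rfl
    exacts [one 1 (by omega) (by decide), one 2 (by omega) (by decide), one 3 (by omega) (by decide),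
      one 4 (by omega) (by decide), one 6 (by omega) (by decide), one 7 (by omega) (by decide),
      commute_wrap (tau_sq hD N) (x := 6) (y := 5) (L := [4, 5, 3, 4, 2, 3, 7, 3, 2, 4, 3, 5, 4])
        (tau_braid hD N 6 5 (by omega) (by omega) (by decide))
        (commute_wrap (tau_sq hD N) (x := 5) (y := 4) (L := [3, 4, 2, 3, 7, 3, 2, 4, 3])
          (tau_braid hD N 5 4 (by omega) (by omega) (by decide))
          (commute_wrap (tau_sq hD N) (x := 4) (y := 3) (L := [2, 3, 7, 3, 2])
            (tau_braid hD N 4 3 (by omega) (by omega) (by decide))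
            (commute_wrap (tau_sq hD N) (x := 3) (y := 2) (L := [7])
              (tau_braid hD N 3 2 (by omega) (by omega) (by decide))
              (by simpa using tau_comm N 7 2 (by omega) (by omega) (by decide)))))]
  have hz7 : ∀ x ∈ zE7, x < 7 := by decide
  have hc := E7Cen.cert.commute_conjugate E7Cen.hlt hid7 E7Cen.hhw φ (tau N 6) ht zE7 hz7 zE7_fix
  rw [presE7.hom_prod hφ zE7 hz7, tau7_map N zE7 hz7] at hc
  have r6 : ∃ u, φ u * tau N 6 * (φ u)⁻¹ = tau N 6 := ⟨1, by simp⟩
  have r5 := reach_step hD N φ (by omega) (by omega) (j := 5) (by decide) _ _ (hσ 5 (by omega)) (hσ 4 (by omega)) r6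
  have r4 := reach_step hD N φ (by omega) (by omega) (j := 4) (by decide) _ _ (hσ 4 (by omega)) (hσ 3 (by omega)) r5
  have r3 := reach_step hD N φ (by omega) (by omega) (j := 3) (by decide) _ _ (hσ 3 (by omega)) (hσ 2 (by omega)) r4
  have r2 := reach_step hD N φ (by omega) (by omega) (j := 2) (by decide) _ _ (hσ 2 (by omega)) (hσ 1 (by omega)) r3
  have r1 := reach_step hD N φ (by omega) (by omega) (j := 1) (by decide) _ _ (hσ 1 (by omega)) (hσ 0 (by omega)) r2
  have r7 := reach_step hD N φ (by omega) (by omega) (j := 7) (by decide) _ _ (hσ 2 (by omega)) (hσ 6 (by omega)) r3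
  rw [show (List.replicate 9 [1, 2, 3, 4, 5, 6, 7]).flatten = zE7.map (· + 1) by decide]
  refine htriv _ fun i h0 h8 => ?_
  have key : ∀ j : ℕ, (∃ u, φ u * tau N 6 * (φ u)⁻¹ = tau N j) →
      Commute ((zE7.map (· + 1)).map (tau N)).prod (tau N j) := fun j ⟨u, hu⟩ => hu ▸ hc u
  fin_cases i
  exacts [absurd rfl h0, key 1 r1, key 2 r2, key 3 r3, key 4 r4, key 5 r5, key 6 r6, key 7 r7, absurd rfl h8]

include hD in
/-- The images of the spider and of the arm relators are central. -/
theorem words_central (φ : presY332.Grp →* G) (hφ : ∀ x < presY332.k, φ (presY332.σ x) = tau N x) (k : ℕ) (hk : k < 2)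
    (i : ℕ) (hi : i < 9) : Commute ((extraWFi22.getD k []).map (tau N)).prod (tau N i) := by
  have hσ : ∀ x < 9, φ (presY332.σ x) = tau N x := hφ
  have ht : ∀ w ∈ Y332.cert.hw, Commute (φ (w.map presY332.σ).prod) (tau N 0) := by
    intro w hw
    rw [presY332.hom_prod hφ w (Y332.hhw w hw)]
    change w ∈ Y332.hw at hw
    simp only [Y332.hw, List.mem_cons, List.not_mem_nil, or_false] at hw
    have one : ∀ j : ℕ, j < 9 → joined (Fin.ofNat 9 j) (Fin.ofNat 9 0) = false →
        Commute (([j] : List ℕ).map (tau N)).prod (tau N 0) := fun j hj hij => by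
      simpa using tau_comm N j 0 hj (by omega) hij
    rcases hw with rfl | rfl | rfl | rfl | rfl | rfl | rfl | rfl | rfl
    exacts [one 0 (by omega) (by decide), one 2 (by omega) (by decide), one 3 (by omega) (by decide),
      one 4 (by omega) (by decide), one 5 (by omega) (by decide), one 6 (by omega) (by decide),
      one 7 (by omega) (by decide), one 8 (by omega) (by decide),
      commute_wrap (tau_sq hD N) (x := 0) (y := 1) (L := [2, 1, 3, 2, 4, 3, 7, 3, 4, 2, 3, 1, 2])
        (tau_braid hD N 0 1 (by omega) (by omega) (by decide))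
        (commute_wrap (tau_sq hD N) (x := 1) (y := 2) (L := [3, 2, 4, 3, 7, 3, 4, 2, 3])
          (tau_braid hD N 1 2 (by omega) (by omega) (by decide))
          (commute_wrap (tau_sq hD N) (x := 2) (y := 3) (L := [4, 3, 7, 3, 4])
            (tau_braid hD N 2 3 (by omega) (by omega) (by decide))
            (commute_wrap (tau_sq hD N) (x := 3) (y := 4) (L := [7])
              (tau_braid hD N 3 4 (by omega) (by omega) (by decide))
              (by simpa using tau_comm N 7 4 (by omega) (by omega) (by decide)))))]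
  have hw9 : ∀ k < 2, ∀ x ∈ extraWFi22.getD k [], x < 9 := by decide
  have hfix : allN 3510 (fun d => Nat.beq (runT Y332.table 9 (extraWFi22.getD k []) d) d) = true := by
    interval_cases k
    exacts [spider_fix, arm_fix]
  have hc := Y332.cert.commute_conjugate Y332.hlt hid332 Y332.hhw φ (tau N 0) ht _ (hw9 k hk) hfix
  rw [presY332.hom_prod hφ _ (hw9 k hk)] at hc
  have r0 : ∃ u, φ u * tau N 0 * (φ u)⁻¹ = tau N 0 := ⟨1, by simp⟩
  have step : ∀ a b : ℕ, a < 9 → b < 9 → joined (Fin.ofNat 9 a) (Fin.ofNat 9 b) = true →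
      (∃ u, φ u * tau N 0 * (φ u)⁻¹ = tau N a) → ∃ u, φ u * tau N 0 * (φ u)⁻¹ = tau N b :=
    fun a b ha hb hab => reach_step hD N φ ha hb hab _ _ (hσ a ha) (hσ b hb)
  have r1 := step 0 1 (by omega) (by omega) (by decide) r0
  have r2 := step 1 2 (by omega) (by omega) (by decide) r1
  have r3 := step 2 3 (by omega) (by omega) (by decide) r2
  have r4 := step 3 4 (by omega) (by omega) (by decide) r3
  have r5 := step 4 5 (by omega) (by omega) (by decide) r4
  have r6 := step 5 6 (by omega) (by omega) (by decide) r5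
  have r7 := step 3 7 (by omega) (by omega) (by decide) r3
  have r8 := step 7 8 (by omega) (by omega) (by decide) r7
  have key : ∀ j : ℕ, (∃ u, φ u * tau N 0 * (φ u)⁻¹ = tau N j) →
      Commute ((extraWFi22.getD k []).map (tau N)).prod (tau N j) := fun j ⟨u, hu⟩ => hu ▸ hc u
  interval_cases i
  exacts [key 0 r0, key 1 r1, key 2 r2, key 3 r3, key 4 r4, key 5 r5, key 6 r6, key 7 r7, key 8 r8]

end

/-- A group of type M(22) is the presented group, and its class is that of a generator. -/
theorem exists_iso (hG : IsThreeTranspositionGroup D) (hp : IsPrimitiveUnderConj D) (h22 : IsOfTypeM22 G D) :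
    ∃ e : presFi22.Grp ≃* G, e '' conjugatesOf (presFi22.σ 0) = D := by
  classical
  have hD := hG.1
  obtain ⟨N, htriv⟩ := exists_nine hG hp h22
  have hE7 := e7_word hD N htriv
  have hrel : ∀ w ∈ presY332.rels, (w.map (tau N)).prod = 1 := by
    intro w hw
    rcases presY332.mem_rels hw with ⟨i, hi, j, hj, rfl⟩ | hw'
    · rw [prod_coxWord]
      exact tau_cox hD N hi hj (label22 i hi j hj)
    · simp only [List.mem_singleton] at hw'
      rw [hw']
      exact hE7
  obtain ⟨π, hπ⟩ := presY332.exists_hom (tau N) (tau_sq hD N) hrel hid332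
  set M := π.range with hMdef
  have hmem : ∀ i, tau N i ∈ M := fun i => by
    by_cases hi : i < 9
    · exact ⟨_, hπ i hi⟩
    · rw [tau, dif_neg hi]; exact one_mem M
  let τM : ℕ → M := fun i => ⟨tau N i, hmem i⟩
  have hgenM : ∀ (H : Subgroup G), (∀ i < 9, tau N i ∈ H) → M ≤ H := fun H hH => by
    rw [hMdef, MonoidHom.range_eq_map, ← presY332.gen_closure, MonoidHom.map_closure, Subgroup.closure_le]
    rintro _ ⟨_, ⟨i, hi, rfl⟩, rfl⟩
    rw [hπ i hi]
    exact hH i hi
  let q := QuotientGroup.mk' (Subgroup.center M)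
  have hval : ∀ w : List ℕ, ((w.map τM).prod : G) = (w.map (tau N)).prod := fun w => by
    rw [Subgroup.val_list_prod, List.map_map]; rfl
  have hqw : ∀ w : List ℕ, (w.map fun i => q (τM i)).prod = q (w.map τM).prod := fun w => by
    rw [map_list_prod, List.map_map]; rfl
  have hrel22 : ∀ w ∈ presFi22.rels, (w.map fun i => q (τM i)).prod = 1 := by
    intro w hw
    rw [hqw]
    have h1 : ((w.map τM).prod : G) = 1 → q (w.map τM).prod = 1 := fun e => by
      rw [show (w.map τM).prod = 1 from Subtype.ext e, map_one]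
    have hcen : (∀ i < 9, Commute (w.map (tau N)).prod (tau N i)) → q (w.map τM).prod = 1 := fun hc => by
      refine (QuotientGroup.eq_one_iff _).mpr (Subgroup.mem_center_iff.mpr fun m => Subtype.ext ?_)
      have : M ≤ Subgroup.centralizer ({(w.map (tau N)).prod} : Set G) := hgenM _ fun i hi =>
        Subgroup.mem_centralizer_singleton_iff.mpr (hc i hi).eq.symm
      rw [Subgroup.coe_mul, Subgroup.coe_mul, hval]
      exact Subgroup.mem_centralizer_singleton_iff.mp (this m.2)
    rcases presFi22.mem_rels hw with ⟨i, hi, j, hj, rfl⟩ | hw'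
    · refine h1 ?_
      rw [hval, prod_coxWord]
      exact tau_cox hD N hi hj (label22 i hi j hj)
    · simp only [extraWFi22, List.mem_cons, List.not_mem_nil, or_false] at hw'
      rcases hw' with rfl | rfl | rfl
      · exact hcen (words_central hD N π hπ 0 (by omega))
      · exact hcen (words_central hD N π hπ 1 (by omega))
      · exact h1 ((hval _).trans hE7)
  obtain ⟨f, hf⟩ := presFi22.exists_hom (fun i => q (τM i))
    (fun i => by rw [← map_mul, show τM i * τM i = 1 from Subtype.ext (tau_sq hD N i), map_one]) hrel22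
    CfsgLib.CosetEnum.Fi22Class.hid
  have hS : IsSimpleGroup presFi22.Grp := Cfsg.Agent.S1696.result.1
  have hfin : Finite presFi22.Grp := Nat.finite_of_card_ne_zero
    (by rw [show Nat.card presFi22.Grp = 64561751654400 from Cfsg.Agent.S1696.result.2]; norm_num)
  have hfinj : Function.Injective f := by
    rw [← MonoidHom.ker_eq_bot_iff]
    refine (f.normal_ker.eq_bot_or_eq_top).resolve_right fun htop => ?_
    have h0 : f (presFi22.σ 0) = 1 := MonoidHom.mem_ker.mp (htop ▸ Subgroup.mem_top _)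
    rw [hf 0 (by decide)] at h0
    have hc := Subgroup.mem_center_iff.mp ((QuotientGroup.eq_one_iff _).mp h0) (τM 1)
    have hc' : Commute (N.x 1) (N.x 0) := congrArg Subtype.val hc
    exact absurd ((N.comm 1 0).mp hc') (by decide)
  have hinj35 : Function.Injective (Fi3510.cert.hom Fi3510.hlt) := by
    have hlow := Fi3510.cert.card_le_of_fixSub Fi3510.hlt
      (Cfsg.Agent.S1696.lower (Fi3510.cert.ker_le_fixSub Fi3510.hlt _))
    exact Fi3510.cert.hom_injective Fi3510.hlt hlow Cfsg.Agent.S1696.upper.2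
  have hcard : (conjugatesOf (presFi22.σ 0)).ncard = 3510 := by
    have := (CfsgLib.CosetEnum.Fi22Class.point_class hinj35).2.2
    simpa using this
  have hn : D.ncard = 3510 := by
    obtain ⟨_, -, -, -, F, iF, iFt, iDec, hF, ⟨A⟩⟩ := exists_full hG hp h22
    exact (params (cls_of_group_prim hG hp) hp A).1
  set T : Set M := {y : M | (y : G) ∈ D}
  have hsub : f '' conjugatesOf (presFi22.σ 0) ⊆ q '' T := by
    rintro _ ⟨x, hx, rfl⟩
    obtain ⟨u, rfl⟩ := isConj_iff.mp hx
    obtain ⟨m, hm⟩ := QuotientGroup.mk'_surjective (Subgroup.center M) (f u)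
    refine ⟨m * τM 0 * m⁻¹, ?_, ?_⟩
    · show (m : G) * tau N 0 * (m : G)⁻¹ ∈ D
      exact hG.2.1 _ _ (by rw [tau_ofNat N (by omega)]; exact N.mem _)
    · simp only [map_mul, map_inv, hf 0 (by decide)]
      rw [show q m = f u from hm]
  have hTD : Subtype.val '' T = D := by
    refine Set.eq_of_subset_of_ncard_le (by rintro _ ⟨y, hy, rfl⟩; exact hy) ?_ (Set.toFinite _)
    rw [hn, Set.ncard_image_of_injective _ Subtype.val_injective]
    calc 3510 = (f '' conjugatesOf (presFi22.σ 0)).ncard := by rw [Set.ncard_image_of_injective _ hfinj, hcard]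
      _ ≤ (q '' T).ncard := Set.ncard_le_ncard hsub (Set.toFinite _)
      _ ≤ T.ncard := Set.ncard_image_le (Set.toFinite _)
  have hMtop : M = ⊤ := by
    rw [eq_top_iff, ← hG.2.2, Subgroup.closure_le, ← hTD]
    rintro _ ⟨y, -, rfl⟩
    exact y.2
  have hqinj : Function.Injective q := by
    rw [← MonoidHom.ker_eq_bot_iff, QuotientGroup.ker_mk', eq_bot_iff]
    intro m hm
    have : (m : G) ∈ Subgroup.center G := Subgroup.mem_center_iff.mpr fun g =>
      congrArg Subtype.val (Subgroup.mem_center_iff.mp hm ⟨g, hMtop ▸ Subgroup.mem_top g⟩)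
    rw [h22.1, Subgroup.mem_bot] at this
    exact Subgroup.mem_bot.mpr (Subtype.ext this)
  have hfsurj : Function.Surjective f := by
    intro y
    obtain ⟨m, rfl⟩ := QuotientGroup.mk'_surjective (Subgroup.center M) y
    obtain ⟨u, hu⟩ := m.2
    have hle : (q.comp π.rangeRestrict).range ≤ f.range := by
      rw [MonoidHom.range_eq_map, ← presY332.gen_closure, MonoidHom.map_closure, Subgroup.closure_le]
      rintro _ ⟨_, ⟨i, hi, rfl⟩, rfl⟩
      exact ⟨presFi22.σ i, (hf i hi).trans (congrArg q (Subtype.ext (hπ i hi).symm))⟩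
    obtain ⟨x, hx⟩ := hle ⟨u, rfl⟩
    exact ⟨x, hx.trans (congrArg q (Subtype.ext hu))⟩
  let e₁ : presFi22.Grp ≃* M ⧸ Subgroup.center M := MulEquiv.ofBijective f ⟨hfinj, hfsurj⟩
  let e₂ : M ≃* M ⧸ Subgroup.center M := MulEquiv.ofBijective q ⟨hqinj, QuotientGroup.mk'_surjective _⟩
  let e₃ : M ≃* G := MulEquiv.ofBijective M.subtype
    ⟨Subtype.val_injective, fun g => ⟨⟨g, hMtop ▸ Subgroup.mem_top g⟩, rfl⟩⟩
  let e : presFi22.Grp ≃* G := (e₁.trans e₂.symm).trans e₃
  have he0 : e (presFi22.σ 0) = tau N 0 := by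
    have : e₂.symm (e₁ (presFi22.σ 0)) = τM 0 := e₂.symm_apply_eq.mpr (hf 0 (by decide))
    exact congrArg Subtype.val this
  refine ⟨e, Set.eq_of_subset_of_ncard_le ?_ ?_ (Set.toFinite _)⟩
  · rintro _ ⟨x, hx, rfl⟩
    obtain ⟨u, rfl⟩ := isConj_iff.mp hx
    rw [map_mul, map_mul, map_inv, he0, tau_ofNat N (by omega)]
    exact hG.2.1 _ _ (N.mem _)
  · rw [hn, Set.ncard_image_of_injective _ e.injective, hcard]

end CfsgThreeTrans.M22.Unique
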