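/-
Moving statements from the presented Fi22 to a group of type M(22).
-/
import Cfsg.Agent.Lib.CosetEnum.Fi22Three.Widths
import Cfsg.Agent.Lib.ThreeTrans.M22.Unique.Iso

set_option autoImplicit false
set_option maxRecDepth 100000

namespace CfsgThreeTrans.M22.Unique

open Cfsg CfsgLib.CosetEnum CfsgLib.CosetEnum.Fi22Three

theorem width_image {A B : Type*} [Group A] [Group B] (e : A →* B) (he : Function.Injective e) (S : Set A) :
    Cfsg.commutingWidth (e '' S) = Cfsg.commutingWidth S := by
  unfold Cfsg.commutingWidth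
  congr 1
  ext n
  constructor
  · rintro ⟨E, hE, hf, hc, hn⟩
    refine ⟨e ⁻¹' E, fun x hx => ?_, hf.preimage he.injOn, fun a ha b hb => ?_, ?_⟩
    · obtain ⟨y, hy, q⟩ := hE hx
      exact he q ▸ hy
    · exact he (by simpa only [map_mul] using (hc _ ha _ hb).eq)
    · rw [Set.ncard_preimage_of_injective_subset_range he (fun x hx => ?_)]
      · exact hn
      · obtain ⟨y, -, q⟩ := hE hx
        exact ⟨y, q⟩
  · rintro ⟨E, hE, hf, hc, hn⟩
    refine ⟨e '' E, Set.image_mono hE, hf.image _, ?_, by rw [Set.ncard_image_of_injective _ he, hn]⟩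
    rintro _ ⟨a, ha, rfl⟩ _ ⟨b, hb, rfl⟩
    exact (hc a ha b hb).map e

theorem centralizer_map {A B : Type*} [Group A] [Group B] (e : A ≃* B) (Y : Subgroup A) :
    (Subgroup.centralizer ((Y.map (e : A →* B) : Subgroup B) : Set B) : Set B) =
      e '' (Subgroup.centralizer (Y : Set A) : Set A) := by
  ext b
  constructor
  · intro h
    refine ⟨e.symm b, Subgroup.mem_centralizer_iff.mpr fun y hy => e.injective ?_, e.apply_symm_apply b⟩
    simpa using Subgroup.mem_centralizer_iff.mp h (e y) ⟨y, hy, rfl⟩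
  · rintro ⟨a, ha, rfl⟩
    refine Subgroup.mem_centralizer_iff.mpr ?_
    rintro _ ⟨y, hy, rfl⟩
    show e y * e a = e a * e y
    rw [← map_mul, ← map_mul, Subgroup.mem_centralizer_iff.mp ha y hy]

theorem width_map {A B : Type*} [Group A] [Group B] (e : A ≃* B) (S : Set A) (Y : Subgroup A) :
    Cfsg.commutingWidth (e '' S ∩ (Subgroup.centralizer ((Y.map (e : A →* B) : Subgroup B) : Set B) : Set B)) =
      Cfsg.commutingWidth (S ∩ (Subgroup.centralizer (Y : Set A) : Set A)) := by
  rw [centralizer_map, ← Set.image_inter e.injective]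
  exact width_image (e : A →* B) e.injective _

/-- The order of a root. -/
theorem root_order : ∀ k < 4, orderOf (Pel 9 (roots.getD k 0)) = 3 := by
  intro k hk
  have h : allN 4 (fun k => base6.all (fun b => Nat.beq (pev 9 (roots.getD k 0) (pev 9 (roots.getD k 0)
      (pev 9 (roots.getD k 0) b))) b) && base6.any (fun b => !Nat.beq (pev 9 (roots.getD k 0) b) b)) = true := by
    decide +kernel
  have hh := allN_spec h k hk
  simp only [Bool.and_eq_true, List.all_eq_true] at hh
  set p := Pel 9 (roots.getD k 0)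
  have h3 : p ^ 3 = 1 := ext6 fun b hb => by
    have hb' := base6_lt b hb
    have e1 : act p b = pev 9 (roots.getD k 0) b := act_Pel 9 le_rfl _ hb'
    have e2 : act p (act p b) = pev 9 (roots.getD k 0) (act p b) := act_Pel 9 le_rfl _ (act_lt _ hb')
    have e3 : act p (act p (act p b)) = pev 9 (roots.getD k 0) (act p (act p b)) :=
      act_Pel 9 le_rfl _ (act_lt _ (act_lt _ hb'))
    rw [act_one, show p ^ 3 = p * (p * p) by simp [pow_succ, mul_assoc], act_mul, act_mul, e3, e2, e1]
    exact Nat.eq_of_beq_eq_true (hh.1 b hb)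
  refine orderOf_eq_prime h3 fun e => ?_
  obtain ⟨b, hb, hne⟩ := List.any_eq_true.mp hh.2
  rw [← act_Pel 9 le_rfl _ (base6_lt b hb), show Pel 9 (roots.getD k 0) = 1 from e, act_one] at hne
  simp at hne

/-- The subgroup of order three of a root. -/
noncomputable def rootSub (k : ℕ) : Subgroup Fi22Three.K := Subgroup.zpowers (Pel 9 (roots.getD k 0))

theorem card_rootSub {k : ℕ} (hk : k < 4) : Nat.card (rootSub k) = 3 := by
  rw [rootSub, Nat.card_zpowers, root_order k hk]

variable {G : Type*} [Group G] {D : Set G} (e : Fi22Three.K ≃* G) (he : e '' conjugatesOf (presFi22.σ 0) = D)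

include he in
theorem conj_width (hD : ∀ g : G, ∀ d ∈ D, g * d * g⁻¹ ∈ D) (g : G) (X : Subgroup G) :
    Cfsg.commutingWidth (D ∩ (Subgroup.centralizer ((X.map (MulAut.conj g).toMonoidHom : Subgroup G) : Set G) : Set G))
      = Cfsg.commutingWidth (D ∩ (Subgroup.centralizer (X : Set G) : Set G)) := by
  have hDg : (MulAut.conj g : G ≃* G) '' D = D := by
    refine Set.Subset.antisymm (by rintro _ ⟨d, hd, rfl⟩; exact hD g d hd) fun d hd => ?_
    exact ⟨g⁻¹ * d * g, by simpa using hD g⁻¹ d hd, by simp [mul_assoc]⟩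
  conv_lhs => rw [← hDg]
  exact width_map (MulAut.conj g) D X

include he in
/-- The subgroups of order three. -/
theorem three_cases {X : Subgroup G} (hX : Nat.card X = 3) :
    ∃ k < 4, ∃ g : G, X.map (MulAut.conj g).toMonoidHom = (rootSub k).map (e : Fi22Three.K →* G) := by
  have hY : Nat.card (X.comap (e : Fi22Three.K →* G)) = 3 := by
    rw [← hX]
    exact Nat.card_congr (e.toEquiv.subtypeEquiv fun a => Iff.rfl)
  obtain ⟨r, hr, g, hg⟩ := class_cases hY
  obtain ⟨k, hk, rfl⟩ := List.getElem_of_mem hr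
  refine ⟨k, hk, e g, ?_⟩
  rw [rootSub, List.getD_eq_getElem _ _ hk, ← hg, Subgroup.map_map,
    ← Subgroup.map_comap_eq_self_of_surjective (f := (e : Fi22Three.K →* G)) e.surjective X, Subgroup.map_map,
    Subgroup.map_comap_eq_self_of_surjective (f := (e : Fi22Three.K →* G)) e.surjective X]
  congr 1
  ext a
  simp

include he in
theorem root_width {k : ℕ} (hk : k < 4) : Cfsg.commutingWidth
    (D ∩ (Subgroup.centralizer (((rootSub k).map (e : Fi22Three.K →* G) : Subgroup G) : Set G) : Set G)) = wid.getD k 0 := by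
  rw [← he, width_map]
  exact width_root hk

end CfsgThreeTrans.M22.Unique
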