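/-
Moving normalizers of subgroups of order three from the presented Fi22 to a group of type M(22).
-/
import Cfsg.Agent.Lib.ThreeTrans.M22.Unique.Transfer
import Cfsg.Agent.Lib.Components

set_option autoImplicit false
set_option maxRecDepth 100000

namespace CfsgThreeTrans.M22.Unique

open Cfsg CfsgLib.CosetEnum CfsgLib.CosetEnum.Fi22Three

/-- The normalizer of the image. -/
noncomputable def normIso {A B : Type*} [Group A] [Group B] (f : A ≃* B) (Y : Subgroup A) :
    ↥(Subgroup.normalizer (Y : Set A)) ≃* ↥(Subgroup.normalizer ((Y.map (f : A →* B) : Subgroup B) : Set B)) :=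
  (f.subgroupMap _).trans (MulEquiv.subgroupCongr (Subgroup.map_equiv_normalizer_eq Y f))

variable {G : Type*} [Group G] {D : Set G} (hD : ∀ g : G, ∀ d ∈ D, g * d * g⁻¹ ∈ D)
  (e : Fi22Three.K ≃* G) (he : e '' conjugatesOf (presFi22.σ 0) = D)

include hD he in
/-- A subgroup of order three of a given width is the image of the root under an isomorphism. -/
theorem exists_root_iso {X : Subgroup G} (hX : Nat.card X = 3) {k : ℕ} (hk : k < 4)
    (hw : Cfsg.commutingWidth (D ∩ (Subgroup.centralizer ((X : Subgroup G) : Set G) : Set G)) = wid.getD k 0) :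
    ∃ f : Fi22Three.K ≃* G, X = (rootSub k).map (f : Fi22Three.K →* G) := by
  obtain ⟨j, hj, g, hg⟩ := three_cases e he hX
  have h := conj_width e he hD g X
  rw [hg, root_width e he hj, hw] at h
  have hjk : j = k := (by decide : ∀ j < 4, ∀ k < 4, wid.getD j 0 = wid.getD k 0 → j = k) j hj k hk h
  subst hjk
  refine ⟨e.trans (MulAut.conj g⁻¹), ?_⟩
  have e1 : X = (((rootSub j).map (e : Fi22Three.K →* G))).map (MulAut.conj g⁻¹).toMonoidHom := by
    rw [← hg, Subgroup.map_map]
    convert (Subgroup.map_id X).symm using 2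
    ext y
    simp [mul_assoc]
  rw [e1, Subgroup.map_map]
  rfl

end CfsgThreeTrans.M22.Unique
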