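/-
The subgroups of order three central in a Sylow subgroup in a group of type M(22).
-/
import Cfsg.Agent.Lib.ThreeTrans.M22.Unique.Normalizer
import Cfsg.Agent.Lib.CosetEnum.Fi22Three.OneCentre

set_option autoImplicit false
set_option maxRecDepth 100000

namespace CfsgThreeTrans.M22.Unique

open Cfsg CfsgLib.CosetEnum CfsgLib.CosetEnum.Fi22Three

/-- Being extraspecial passes along isomorphisms. -/
theorem extraspecial_equiv {X : Type*} {Y : Type*} [Group X] [Group Y] {p : ℕ} (e : X ≃* Y)
    (h : IsExtraspecial p X) : IsExtraspecial p Y := by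
  obtain ⟨⟨hp, hf, hd⟩, hc⟩ := h
  have hcen : (Subgroup.center X).map e.toMonoidHom = Subgroup.center Y := by
    ext y
    rw [Subgroup.mem_map_equiv, Subgroup.mem_center_iff, Subgroup.mem_center_iff]
    constructor
    · intro hh z
      apply e.symm.injective
      rw [map_mul, map_mul]
      exact hh _
    · intro hh z
      apply e.injective
      simp only [map_mul, MulEquiv.apply_symm_apply]
      exact hh _
  have hfr : (frattini X).map e.toMonoidHom = frattini Y := by
    refine le_antisymm ?_ ?_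
    · exact Subgroup.map_le_iff_le_comap.mpr (frattini_le_comap_frattini_of_surjective e.surjective)
    · intro y hy
      rw [Subgroup.mem_map_equiv]
      exact frattini_le_comap_frattini_of_surjective (φ := e.symm.toMonoidHom) e.symm.surjective hy
  refine ⟨⟨hp.of_equiv e, ?_, ?_⟩, ?_⟩
  · rw [← hfr, hf, hcen]
  · rw [← hcen, ← hd, _root_.commutator_def, _root_.commutator_def, Subgroup.map_commutator,
      Subgroup.map_top_of_surjective e.toMonoidHom e.surjective]
  · rw [← hcen, Subgroup.card_map_of_injective (f := e.toMonoidHom) e.injective, hc]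

variable {G : Type*} [Group G] [Finite G] {D : Set G}

/-- A subgroup of order three central in a Sylow subgroup is the image of the central root. -/
theorem exists_central_iso (e : Fi22Three.K ≃* G) (he : e '' conjugatesOf (presFi22.σ 0) = D) {Z : Subgroup G}
    (hZ : Nat.card Z = 3) (P : Sylow 3 G) (hP : Z ≤ (Subgroup.center ↥(P : Subgroup G)).map (P : Subgroup G).subtype) :
    ∃ f : Fi22Three.K ≃* G, Z = (rootSub 2).map (f : Fi22Three.K →* G) ∧ f '' conjugatesOf (presFi22.σ 0) = D := by
  have := finiteK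
  have : Fact (Nat.Prime 3) := ⟨by norm_num⟩
  let P' : Sylow 3 Fi22Three.K := P.comapOfInjective (e : Fi22Three.K →* G) e.injective
    (fun x _ => ⟨e.symm x, e.apply_symm_apply x⟩)
  obtain ⟨c, hc⟩ := MulAction.exists_smul_eq Fi22Three.K P' S3
  let f : Fi22Three.K ≃* G := (MulAut.conj c⁻¹).trans e
  have hfP : ∀ s ∈ (S3 : Subgroup Fi22Three.K), f s ∈ (P : Subgroup G) := by
    intro s hs
    rw [← hc] at hs
    obtain ⟨t, ht, rfl⟩ := hs
    show e (c⁻¹ * (c * t * c⁻¹) * c⁻¹⁻¹) ∈ (P : Subgroup G)
    rw [show c⁻¹ * (c * t * c⁻¹) * c⁻¹⁻¹ = t by group]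
    exact ht
  refine ⟨f, ?_, ?_⟩
  · have hcard : Nat.card (Z.comap (f : Fi22Three.K →* G)) = 3 := by
      rw [← hZ]
      exact Nat.card_congr (f.toEquiv.subtypeEquiv fun a => Iff.rfl)
    have hle : Z.comap (f : Fi22Three.K →* G) ≤ rootSub 2 := by
      intro z hz
      obtain ⟨w, hw, ew⟩ := hP hz
      have hwP : f z ∈ (P : Subgroup G) := ew ▸ w.2
      have hzS : z ∈ (S3 : Subgroup Fi22Three.K) := by
        rw [← hc]
        refine ⟨c⁻¹ * z * c, ?_, ?_⟩
        · show e (c⁻¹ * z * c) ∈ (P : Subgroup G)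
          have : f z = e (c⁻¹ * z * c) := by show e (c⁻¹ * z * c⁻¹⁻¹) = _; rw [inv_inv]
          rwa [this] at hwP
        · show c * (c⁻¹ * z * c) * c⁻¹ = z
          group
      exact One.centre_le hzS fun s hs => f.injective (by
        rw [map_mul, map_mul]
        have := congrArg Subtype.val (Subgroup.mem_center_iff.mp hw ⟨f s, hfP s hs⟩)
        simpa [show (w : G) = f z from ew] using this)
    have he' := Subgroup.eq_of_le_of_card_ge hle (by rw [hcard, card_rootSub (by norm_num)])
    rw [← he', Subgroup.map_comap_eq_self_of_surjective (f := (f : Fi22Three.K →* G)) f.surjective]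
  · rw [← he]
    have hcl : MulAut.conj c⁻¹ '' conjugatesOf (presFi22.σ 0) = conjugatesOf (presFi22.σ 0) := by
      refine Set.Subset.antisymm ?_ fun x hx => ⟨(MulAut.conj c⁻¹).symm x, ?_, MulEquiv.apply_symm_apply _ _⟩
      · rintro _ ⟨x, hx, rfl⟩
        exact IsConj.trans hx (isConj_iff.mpr ⟨c⁻¹, rfl⟩)
      · exact IsConj.trans hx (isConj_iff.mpr ⟨c, by simp⟩)
    show (fun x => e (MulAut.conj c⁻¹ x)) '' _ = _
    rw [← Set.image_image (g := e) (f := MulAut.conj c⁻¹), hcl]

end CfsgThreeTrans.M22.Unique
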