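/-
The presented Fi22 as a 3-transposition group: the generators are conjugate.
-/
import Cfsg.Agent.Lib.CosetEnum.Relations
import Cfsg.Agent.Lib.CosetEnum.PresFi22

set_option autoImplicit false

namespace CfsgThreeTrans.M22.Unique

open CfsgLib.CosetEnum

theorem gen_step {i j : ℕ} (hij : coxWord i j 3 ∈ presFi22.rels)
    (h : IsConj (presFi22.σ 0) (presFi22.σ i)) : IsConj (presFi22.σ 0) (presFi22.σ j) := by
  have e := presFi22.rels_one hij
  rw [prod_coxWord] at e
  refine h.trans (isConj_iff.mpr ⟨presFi22.σ i * presFi22.σ j, ?_⟩)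
  rw [mul_inv_rev, inv_eq_of_mul_eq_one_right (presFi22.σ_sq i), inv_eq_of_mul_eq_one_right (presFi22.σ_sq j)]
  set x := presFi22.σ i
  set y := presFi22.σ j
  have hx : x * x = 1 := presFi22.σ_sq i
  have hy : y * y = 1 := presFi22.σ_sq j
  calc x * y * x * (y * x) = (x * y) ^ 3 * (y * y) * y := by rw [hy, mul_one, pow_succ, pow_two]; simp [mul_assoc, hx, hy]
    _ = y := by rw [e, hy, one_mul, one_mul]

/-- All generators are conjugate to the first. -/
theorem gen_conj : ∀ i < 9, IsConj (presFi22.σ 0) (presFi22.σ i) := by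
  have s : ∀ i j, (i, j) ∈ [(0, 1), (1, 2), (2, 3), (3, 4), (4, 5), (5, 6), (3, 7), (7, 8)] →
      coxWord i j 3 ∈ presFi22.rels := by
    have h : ∀ p ∈ [(0, 1), (1, 2), (2, 3), (3, 4), (4, 5), (5, 6), (3, 7), (7, 8)],
        coxWord p.1 p.2 3 ∈ presFi22.rels := by decide +kernel
    exact fun i j hij => h _ hij
  have h0 : IsConj (presFi22.σ 0) (presFi22.σ 0) := IsConj.refl _
  have h1 := gen_step (s 0 1 (by simp)) h0
  have h2 := gen_step (s 1 2 (by simp)) h1
  have h3 := gen_step (s 2 3 (by simp)) h2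
  have h4 := gen_step (s 3 4 (by simp)) h3
  have h5 := gen_step (s 4 5 (by simp)) h4
  have h6 := gen_step (s 5 6 (by simp)) h5
  have h7 := gen_step (s 3 7 (by simp)) h3
  have h8 := gen_step (s 7 8 (by simp)) h7
  intro i hi
  interval_cases i
  exacts [h0, h1, h2, h3, h4, h5, h6, h7, h8]

end CfsgThreeTrans.M22.Unique
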